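import Cfsg.Agent.Lib.Char.SylowPermGen
import Cfsg.Agent.Lib.Classical.SignRank
import Mathlib.GroupTheory.SpecificGroups.Quaternion

/-!
Groups in which every square is a product of commutators, and Sylow 2-subgroups of wreath
products of odd index.
-/

set_option autoImplicit false

namespace CfsgLib.Classical.SylowAb

open scoped commutatorElement
open CfsgLib.SylowPermGen CfsgLib.Classical.SignRank

universe u v w

variable {G : Type u} [Group G]

/-- The abelianisation of `H` has exponent at most two. -/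
def SqComm (H : Subgroup G) : Prop := ∀ x ∈ H, x ^ 2 ∈ ⁅H, H⁆

/-- The elements of `H` whose square is a product of commutators. -/
def sqGens (H : Subgroup G) : Set G := {x | x ∈ H ∧ x ^ 2 ∈ ⁅H, H⁆}

theorem SqComm.of_closure {H : Subgroup G} (h : H ≤ Subgroup.closure (sqGens H)) : SqComm H := by
  have key : ∀ y : H, y ^ 2 ∈ commutator H ↔ (y : G) ^ 2 ∈ ⁅H, H⁆ := fun y => by
    rw [← Subgroup.map_subtype_commutator, ← Subgroup.coe_pow]
    exact (Subgroup.mem_map_iff_mem H.subtype_injective).symm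
  let K : Subgroup H :=
    { carrier := {y : H | (Abelianization.of y) ^ 2 = 1}
      one_mem' := by simp
      mul_mem' := by
        intro a b ha hb
        simp only [Set.mem_ofPred_eq, map_mul, mul_pow] at ha hb ⊢
        rw [ha, hb, one_mul]
      inv_mem' := by
        intro a ha
        simp only [Set.mem_ofPred_eq, map_inv, inv_pow] at ha ⊢
        rw [ha, inv_one] }
  have hmem : ∀ y : H, y ∈ K ↔ y ^ 2 ∈ commutator H := fun y => by
    show (Abelianization.of y) ^ 2 = 1 ↔ _
    rw [← map_pow, ← MonoidHom.mem_ker, Abelianization.ker_of]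
  have hle : H ≤ K.map H.subtype := h.trans ((Subgroup.closure_le _).mpr fun x hx =>
    ⟨⟨x, hx.1⟩, (hmem _).2 ((key _).2 hx.2), rfl⟩)
  intro x hx
  obtain ⟨y, hy, rfl⟩ := hle hx
  exact (key y).1 ((hmem y).1 hy)

theorem SqComm.mem_commutator {H : Subgroup G} (h : SqComm H) (x : H) :
    x ^ 2 ∈ commutator H := by
  have h' := h x x.2
  rw [← Subgroup.map_subtype_commutator, ← Subgroup.coe_pow] at h'
  exact (Subgroup.mem_map_iff_mem H.subtype_injective).1 h'

theorem SqComm.map {K : Type v} [Group K] {H : Subgroup G} (h : SqComm H) (f : G →* K) :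
    SqComm (H.map f) := by
  rintro _ ⟨x, hx, rfl⟩
  rw [← map_pow, ← Subgroup.map_commutator]
  exact Subgroup.mem_map_of_mem f (h x hx)

theorem SqComm.of_map {K : Type v} [Group K] {H : Subgroup G} (f : G →* K)
    (hf : Function.Injective f) (h : SqComm (H.map f)) : SqComm H := by
  intro x hx
  have h' := h (f x) (Subgroup.mem_map_of_mem f hx)
  rw [← map_pow, ← Subgroup.map_commutator] at h'
  exact (Subgroup.mem_map_iff_mem hf).1 h'

theorem SqComm.mem_sqGens {K : Type v} [Group K] {S : Subgroup G} (h : SqComm S) (f : G →* K)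
    {T : Subgroup K} (hle : S.map f ≤ T) {x : G} (hx : x ∈ S) : f x ∈ sqGens T :=
  ⟨hle (Subgroup.mem_map_of_mem f hx),
    Subgroup.commutator_mono hle hle (SqComm.map h f _ (Subgroup.mem_map_of_mem f hx))⟩

theorem mem_sqGens_of_sq {H : Subgroup G} {x : G} (hx : x ∈ H) (h : x ^ 2 = 1) : x ∈ sqGens H :=
  ⟨hx, by rw [h]; exact one_mem _⟩

theorem sqComm_of_genP {H : Subgroup G} (h : GenP 2 H) : SqComm H :=
  SqComm.of_closure (h.trans (Subgroup.closure_mono fun _ hx => mem_sqGens_of_sq hx.1 hx.2))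

/-- If an element is inverted by an element of `H`, its square is a commutator. -/
theorem mem_sqGens_of_inverted {H : Subgroup G} {x s : G} (hx : x ∈ H) (hs : s ∈ H)
    (h : s * x * s⁻¹ = x⁻¹) : x ∈ sqGens H := by
  refine ⟨hx, ?_⟩
  have : x ^ 2 = ⁅x, s⁆ := by
    rw [commutatorElement_def, show x * s * x⁻¹ * s⁻¹ = x * (s * x * s⁻¹)⁻¹ by group, h, inv_inv,
      pow_two]
  rw [this]
  exact Subgroup.commutator_mem_commutator hx hs

theorem sqComm_quaternion (k : ℕ) (hk : 1 ≤ k) :
    SqComm (⊤ : Subgroup (QuaternionGroup (2 ^ k))) := by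
  have key : ∀ i : ZMod (2 * 2 ^ k), QuaternionGroup.a (i + i) ∈
      ⁅(⊤ : Subgroup (QuaternionGroup (2 ^ k))), (⊤ : Subgroup (QuaternionGroup (2 ^ k)))⁆ := by
    intro i
    have := Subgroup.commutator_mem_commutator (Subgroup.mem_top (QuaternionGroup.a i))
      (Subgroup.mem_top (QuaternionGroup.xa (0 : ZMod (2 * 2 ^ k))))
    have e : ⁅QuaternionGroup.a i, (QuaternionGroup.xa 0 : QuaternionGroup (2 ^ k))⁆ =
        QuaternionGroup.a (i + i) := by
      rw [commutatorElement_def, mul_inv_eq_iff_eq_mul, mul_inv_eq_iff_eq_mul,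
        QuaternionGroup.a_mul_xa, QuaternionGroup.a_mul_xa, QuaternionGroup.xa_mul_a,
        QuaternionGroup.xa.injEq]
      abel
    rwa [e] at this
  rintro (i | i) -
  · rw [pow_two, QuaternionGroup.a_mul_a]
    exact key i
  · rw [pow_two, QuaternionGroup.xa_mul_xa, add_sub_cancel_right]
    have h2 : ((2 ^ k : ℕ) : ZMod (2 * 2 ^ k)) =
        ((2 ^ (k - 1) : ℕ) : ZMod (2 * 2 ^ k)) + ((2 ^ (k - 1) : ℕ) : ZMod (2 * 2 ^ k)) := by
      rw [← Nat.cast_add, ← two_mul]
      congr
      rw [← pow_succ', Nat.sub_add_cancel hk]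
    rw [h2]
    exact key _

theorem sqComm_of_equiv {K : Type v} [Group K] {H : Subgroup G} (e : H ≃* K)
    (h : SqComm (⊤ : Subgroup K)) : SqComm H := by
  have h1 := (h.map e.symm.toMonoidHom).map H.subtype
  rwa [Subgroup.map_top_of_surjective _ e.symm.surjective, ← MonoidHom.range_eq_map,
    Subgroup.range_subtype] at h1

/-- The image of a Sylow 2-subgroup under an injection of odd index is a Sylow 2-subgroup. -/
theorem exists_sylow_eq_map [Finite G] {A : Type v} [Group A] [Finite A] (f : A →* G)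
    (hf : Function.Injective f)
    (hval : padicValNat 2 (Nat.card G) = padicValNat 2 (Nat.card A)) (T : Sylow 2 A) :
    ∃ P : Sylow 2 G, (P : Subgroup G) = (T : Subgroup A).map f := by
  haveI : Fact (Nat.Prime 2) := ⟨Nat.prime_two⟩
  refine ⟨Sylow.ofCard ((T : Subgroup A).map f) ?_, rfl⟩
  rw [Subgroup.card_map_of_injective hf, T.card_eq_multiplicity,
    Nat.factorization_def _ Nat.prime_two, Nat.factorization_def _ Nat.prime_two, hval]

theorem sqComm_sylow [Finite G] {A : Type v} [Group A] [Finite A] (f : A →* G)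
    (hf : Function.Injective f)
    (hval : padicValNat 2 (Nat.card G) = padicValNat 2 (Nat.card A)) (T : Sylow 2 A)
    (hT : SqComm (T : Subgroup A)) (P : Sylow 2 G) : SqComm (P : Subgroup G) := by
  obtain ⟨P', hP'⟩ := exists_sylow_eq_map f hf hval T
  obtain ⟨g, rfl⟩ := MulAction.exists_smul_eq G P' P
  have h := (hT.map f).map (MulAut.conj g).toMonoidHom
  rw [← hP'] at h
  exact h

/-- The same for Sylow subgroups of a normal subgroup, given as an injective homomorphism. -/
theorem sqComm_sylow_normal [Finite G] {A : Type v} [Group A] [Finite A] (f : A →* G)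
    (hf : Function.Injective f)
    (hval : padicValNat 2 (Nat.card G) = padicValNat 2 (Nat.card A)) (T : Sylow 2 A)
    {N : Type w} [Group N] (j : N →* G) (hj : Function.Injective j) (hN : j.range.Normal)
    (hT : SqComm ((T : Subgroup A) ⊓ j.range.comap f)) (Q : Sylow 2 N) :
    SqComm (Q : Subgroup N) := by
  haveI : Fact (Nat.Prime 2) := ⟨Nat.prime_two⟩
  obtain ⟨P', hP'⟩ := exists_sylow_eq_map f hf hval T
  obtain ⟨P, hP⟩ := (Q.2.map j).exists_le_sylow
  obtain ⟨g, rfl⟩ := MulAction.exists_smul_eq G P' P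
  set R : Subgroup G := (((T : Subgroup A) ⊓ j.range.comap f).map f).map
    (MulAut.conj g).toMonoidHom with hR
  have hRp : IsPGroup 2 R := ((T.2.to_le inf_le_left).map f).map _
  have hle : (Q : Subgroup N).map j ≤ R := by
    intro x hx
    have hxj : x ∈ j.range := Subgroup.map_le_range j _ hx
    have hx' : x ∈ (P' : Subgroup G).map (MulAut.conj g).toMonoidHom := hP hx
    obtain ⟨y, hy, rfl⟩ := hx'
    rw [hP'] at hy
    obtain ⟨a, ha, rfl⟩ := hy
    refine Subgroup.mem_map_of_mem _ (Subgroup.mem_map_of_mem _ ⟨ha, ?_⟩)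
    have := hN.conj_mem _ hxj g⁻¹
    simpa [MulAut.conj_apply, mul_assoc] using this
  have hQR : R.comap j = (Q : Subgroup N) :=
    Q.is_maximal' (hRp.comap_of_injective j hj) (Subgroup.map_le_iff_le_comap.1 hle)
  have hRj : R ≤ j.range := by
    rintro _ ⟨_, ⟨a, ha, rfl⟩, rfl⟩
    exact hN.conj_mem _ ha.2 g
  refine SqComm.of_map j hj ?_
  rw [← hQR, Subgroup.map_comap_eq_self hRj]
  exact (hT.map f).map _

section Wreath

variable {A : Type u} [Group A] {m : ℕ}

/-- The wreath product. -/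
abbrev Wr (A : Type u) [Group A] (m : ℕ) := (Fin m → A) ⋊[permAut A m] Equiv.Perm (Fin m)

/-- The subgroup `S ≀ PS`. -/
def wrSub (S : Subgroup A) (PS : Subgroup (Equiv.Perm (Fin m))) : Subgroup (Wr A m) where
  carrier := {x | (∀ i, x.left i ∈ S) ∧ x.right ∈ PS}
  one_mem' := ⟨fun _ => S.one_mem, PS.one_mem⟩
  mul_mem' := by
    rintro x y ⟨hx, hx'⟩ ⟨hy, hy'⟩
    exact ⟨fun i => S.mul_mem (hx i) (hy _), PS.mul_mem hx' hy'⟩
  inv_mem' := by
    rintro x ⟨hx, hx'⟩
    exact ⟨fun i => S.inv_mem (hx _), PS.inv_mem hx'⟩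

theorem inr_mem {S : Subgroup A} {PS : Subgroup (Equiv.Perm (Fin m))} {σ : Equiv.Perm (Fin m)}
    (hσ : σ ∈ PS) : (SemidirectProduct.inr σ : Wr A m) ∈ wrSub S PS :=
  ⟨fun _ => S.one_mem, hσ⟩

theorem inl_mem {S : Subgroup A} {PS : Subgroup (Equiv.Perm (Fin m))} {f : Fin m → A}
    (hf : ∀ i, f i ∈ S) : (SemidirectProduct.inl f : Wr A m) ∈ wrSub S PS :=
  ⟨hf, PS.one_mem⟩

theorem card_wrSub (S : Subgroup A) (PS : Subgroup (Equiv.Perm (Fin m))) :
    Nat.card (wrSub S PS) = Nat.card S ^ m * Nat.card PS := by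
  let e : wrSub S PS ≃ (Fin m → S) × PS :=
    { toFun := fun x => (fun i => ⟨x.1.left i, x.2.1 i⟩, ⟨x.1.right, x.2.2⟩)
      invFun := fun a => ⟨⟨fun i => a.1 i, a.2⟩, ⟨fun i => (a.1 i).2, a.2.2⟩⟩
      left_inv := fun x => rfl
      right_inv := fun a => rfl }
  rw [Nat.card_congr e, Nat.card_prod, Nat.card_fun, Nat.card_fin]

instance [Finite A] : Finite (Wr A m) :=
  Finite.of_equiv _ (SemidirectProduct.equivProd (φ := permAut A m)).symm

theorem card_wr : Nat.card (Wr A m) = Nat.card A ^ m * m.factorial := by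
  rw [SemidirectProduct.card, Nat.card_fun, Nat.card_fin, Nat.card_perm, Nat.card_fin]

/-- `S ≀ PS` is a Sylow subgroup. -/
theorem exists_sylow_wr [Finite A] (S : Sylow 2 A) (PS : Sylow 2 (Equiv.Perm (Fin m))) :
    ∃ T : Sylow 2 (Wr A m), (T : Subgroup (Wr A m)) = wrSub (S : Subgroup A) PS := by
  haveI : Fact (Nat.Prime 2) := ⟨Nat.prime_two⟩
  refine ⟨Sylow.ofCard (wrSub (S : Subgroup A) PS) ?_, rfl⟩
  rw [card_wrSub, S.card_eq_multiplicity, PS.card_eq_multiplicity, card_wr, Nat.card_perm,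
    Nat.card_fin, Nat.factorization_mul (pow_ne_zero _ Nat.card_pos.ne') (Nat.factorial_ne_zero m),
    Nat.factorization_pow, Finsupp.add_apply, Finsupp.smul_apply, smul_eq_mul, pow_add, ← pow_mul,
    mul_comm m]

/-- Generators of `(S ≀ PS) ⊓ L` for `L` containing `PS`. -/
theorem wrSub_inf_le_closure {S : Subgroup A} {PS : Subgroup (Equiv.Perm (Fin m))}
    (hPS : GenP 2 PS) (L : Subgroup (Wr A m)) (hL : ∀ σ ∈ PS, SemidirectProduct.inr σ ∈ L)
    (hbase : ∀ f : Fin m → A, (∀ i, f i ∈ S) → SemidirectProduct.inl f ∈ L →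
      SemidirectProduct.inl f ∈ Subgroup.closure (sqGens (wrSub S PS ⊓ L))) :
    SqComm (wrSub S PS ⊓ L) := by
  refine SqComm.of_closure fun x hx => ?_
  rw [← SemidirectProduct.inl_left_mul_inr_right x]
  refine Subgroup.mul_mem _ (hbase _ hx.1.1 ?_) ?_
  · have : SemidirectProduct.inl x.left = x * (SemidirectProduct.inr x.right)⁻¹ := by
      rw [eq_mul_inv_iff_mul_eq, SemidirectProduct.inl_left_mul_inr_right]
    rw [this]
    exact L.mul_mem hx.2 (L.inv_mem (hL _ hx.1.2))
  · have h1 := Subgroup.mem_map_of_mem (SemidirectProduct.inr : _ →* Wr A m) (hPS hx.1.2)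
    rw [MonoidHom.map_closure] at h1
    refine Subgroup.closure_mono ?_ h1
    rintro _ ⟨σ, ⟨hσ, hσ2⟩, rfl⟩
    exact mem_sqGens_of_sq ⟨inr_mem hσ, hL _ hσ⟩ (by rw [← map_pow, hσ2, map_one])

/-- A wreath product with a group generated by involutions inherits `SqComm`. -/
theorem sqComm_wrSub {S : Subgroup A} (hS : SqComm S) {PS : Subgroup (Equiv.Perm (Fin m))}
    (hPS : GenP 2 PS) : SqComm (wrSub S PS) := by
  have h := wrSub_inf_le_closure (S := S) hPS ⊤ (fun _ _ => Subgroup.mem_top _)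
    fun f hf _ => by
      have hall : f ∈ (Subgroup.closure (sqGens (wrSub S PS ⊓ ⊤))).comap
          (SemidirectProduct.inl : _ →* Wr A m) := by
        refine Subgroup.pi_mem_of_mulSingle_mem f fun i => ?_
        refine Subgroup.subset_closure (hS.mem_sqGens
          ((SemidirectProduct.inl : _ →* Wr A m).comp (MonoidHom.mulSingle (fun _ => A) i)) ?_ (hf i))
        rintro _ ⟨a, ha, rfl⟩
        refine ⟨inl_mem fun l => ?_, Subgroup.mem_top _⟩
        by_cases hl : l = i
        · subst hl; simpa using ha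
        · simp [hl]
      exact hall
  rwa [inf_top_eq] at h

theorem exists_sqComm_sylow_wr [Finite A] (S : Sylow 2 A) (hS : SqComm (S : Subgroup A)) :
    ∃ T : Sylow 2 (Wr A m), SqComm (T : Subgroup (Wr A m)) := by
  haveI : Fact (Nat.Prime 2) := ⟨Nat.prime_two⟩
  obtain ⟨PS⟩ : Nonempty (Sylow 2 (Equiv.Perm (Fin m))) := inferInstance
  obtain ⟨T, hT⟩ := exists_sylow_wr S PS
  exact ⟨T, hT ▸ sqComm_wrSub hS (genP_sylow_perm 2 m PS)⟩

end Wreath

/-- A Sylow 2-subgroup of `S_{2^j}` may be chosen so that any two points are swapped. -/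
theorem exists_sylow_swapping (j : ℕ) :
    ∃ PS : Sylow 2 (Equiv.Perm (Fin (2 ^ j))), ∀ a b, ∃ σ ∈ (PS : Subgroup (Equiv.Perm (Fin (2 ^ j)))),
      σ a = b ∧ σ b = a ∧ σ * σ = 1 := by
  haveI : Fact (Nat.Prime 2) := ⟨Nat.prime_two⟩
  let e : (Fin j → ZMod 2) ≃ Fin (2 ^ j) := Fintype.equivOfCardEq (by simp)
  let tr : Multiplicative (Fin j → ZMod 2) →* Equiv.Perm (Fin (2 ^ j)) :=
    e.permCongrHom.toMonoidHom.comp
      { toFun := fun v => Equiv.addLeft v.toAdd
        map_one' := by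
          refine Equiv.ext fun x => ?_
          simp
        map_mul' := fun v w => by
          refine Equiv.ext fun x => ?_
          simp [add_assoc] }
  have htr : ∀ v x, tr v x = e (v.toAdd + e.symm x) := fun v x => rfl
  have hp : IsPGroup 2 tr.range :=
    ((IsPGroup.of_card (n := j) (by simp)) : IsPGroup 2 (Multiplicative (Fin j → ZMod 2))).of_surjective
      tr.rangeRestrict tr.rangeRestrict_surjective
  obtain ⟨PS, hPS⟩ := hp.exists_le_sylow
  have h2 : ∀ x : Fin j → ZMod 2, x + x = 0 := fun x => funext fun i => CharTwo.add_self_eq_zero _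
  refine ⟨PS, fun a b => ⟨tr (.ofAdd (e.symm a + e.symm b)), hPS ⟨_, rfl⟩, ?_, ?_, ?_⟩⟩
  · rw [htr, toAdd_ofAdd, add_assoc, add_comm (e.symm b), ← add_assoc, h2, zero_add,
      Equiv.apply_symm_apply]
  · rw [htr, toAdd_ofAdd, add_assoc, h2, add_zero, Equiv.apply_symm_apply]
  · rw [← map_mul, ← ofAdd_add, h2, ofAdd_zero, map_one]

end CfsgLib.Classical.SylowAb
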