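import Cfsg.Agent.Lib.Classical.SylowAb.OctonionModel
import Cfsg.Agent.Lib.Classical.LinearOrder

/-!
The order of the automorphism group of Zorn's algebra: idempotents form one orbit with stabiliser `SL₃`.
-/

set_option autoImplicit false

namespace CfsgLib.Classical.SylowAb.Octonion

open Matrix
open Cfsg.Lie (zornMul zA zB dot3 cross3 G2)

variable {F : Type*} [Field F]

/-- The unit. -/
def oneO (F : Type*) [Field F] : Fin 8 → F := zVec 1 0 0 1

/-- The first idempotent. -/
def eO (F : Type*) [Field F] : Fin 8 → F := zVec 1 0 0 0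

theorem zVec_zero (α : F) (a b : Fin 3 → F) (β : F) : zVec α a b β 0 = α := rfl

theorem zVec_seven (α : F) (a b : Fin 3 → F) (β : F) : zVec α a b β 7 = β := rfl

theorem zornMul_zVec (α β γ δ : F) (a b c d : Fin 3 → F) :
    zornMul (zVec α a b β) (zVec γ c d δ) = zVec (α * γ + dot3 a d) (α • c + δ • a - cross3 b d)
      (γ • b + β • d + cross3 a c) (dot3 b c + β * δ) := by
  rw [zornMul_eq, zA_zVec, zA_zVec, zB_zVec, zB_zVec, zVec_zero, zVec_zero, zVec_seven, zVec_seven]

theorem zVec_inj {α β γ δ : F} {a b c d : Fin 3 → F} (h : zVec α a b β = zVec γ c d δ) :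
    α = γ ∧ a = c ∧ b = d ∧ β = δ := by
  refine ⟨congrFun h 0, ?_, ?_, congrFun h 7⟩
  · have := congrArg (zA F) h
    rwa [zA_zVec, zA_zVec] at this
  · have := congrArg (zB F) h
    rwa [zB_zVec, zB_zVec] at this

theorem cross3_self (u : Fin 3 → F) : cross3 u u = 0 := by
  funext i; fin_cases i <;> simp [cross3] <;> ring

theorem cross3_zero_left (u : Fin 3 → F) : cross3 0 u = 0 := by
  funext i; fin_cases i <;> simp [cross3]

theorem cross3_zero_right (u : Fin 3 → F) : cross3 u 0 = 0 := by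
  funext i; fin_cases i <;> simp [cross3]

theorem dot3_zero_left (u : Fin 3 → F) : dot3 0 u = 0 := by simp [dot3]

theorem dot3_zero_right (u : Fin 3 → F) : dot3 u 0 = 0 := by simp [dot3]

theorem one_mulO (x : Fin 8 → F) : zornMul (oneO F) x = x := by
  conv_lhs => rw [oneO, ← zVec_self x, zornMul_zVec]
  simp only [cross3_zero_left, dot3_zero_left, smul_zero, sub_zero, add_zero, one_smul, zero_add,
    one_mul]
  exact zVec_self x

theorem mul_oneO (x : Fin 8 → F) : zornMul x (oneO F) = x := by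
  conv_lhs => rw [oneO, ← zVec_self x, zornMul_zVec]
  simp only [cross3_zero_right, dot3_zero_right, smul_zero, sub_zero, add_zero, one_smul, zero_add,
    mul_one]
  exact zVec_self x

theorem act_oneO (g : G2 F) : act g (oneO F) = oneO F := by
  have h : ∀ y, zornMul (act g (oneO F)) y = y := fun y => by
    obtain ⟨z, rfl⟩ := (act g).surjective y
    rw [← act_mul_apply, one_mulO]
  rw [← mul_oneO (act g (oneO F)), h]

/-- The nontrivial idempotents. -/
def Idem (F : Type*) [Field F] : Set (Fin 8 → F) :=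
  {x | x 0 + x 7 = 1 ∧ x 0 * x 7 = dot3 (zA F x) (zB F x)}

theorem idem_of_sq {x : Fin 8 → F} (h : zornMul x x = x) (h0 : x ≠ 0) (h1 : x ≠ oneO F) :
    x ∈ Idem F := by
  rw [← zVec_self x] at h h0 h1
  rw [zornMul_zVec, cross3_self, cross3_self, sub_zero, add_zero] at h
  obtain ⟨e0, ea, eb, e7⟩ := zVec_inj h
  have hs : x 0 + x 7 = 1 ∨ (zA F x = 0 ∧ zB F x = 0) := by
    rcases em (x 0 + x 7 = 1) with h' | h'
    · exact Or.inl h'
    refine Or.inr ⟨funext fun i => ?_, funext fun i => ?_⟩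
    · have := congrFun ea i
      simp only [Pi.add_apply, Pi.smul_apply, smul_eq_mul] at this
      exact (mul_eq_zero.1 (show (x 0 + x 7 - 1) * zA F x i = 0 by linear_combination this)).resolve_left
        (sub_ne_zero.2 h')
    · have := congrFun eb i
      simp only [Pi.add_apply, Pi.smul_apply, smul_eq_mul] at this
      exact (mul_eq_zero.1 (show (x 0 + x 7 - 1) * zB F x i = 0 by linear_combination this)).resolve_left
        (sub_ne_zero.2 h')
  rcases hs with hs | ⟨ha, hb⟩
  · exact ⟨hs, by linear_combination (-1 : F) * e0 + (x 0) * hs⟩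
  · rw [ha, hb, dot3_zero_left] at e0 e7
    rw [ha, hb] at h0 h1
    have f0 : x 0 = 0 ∨ x 0 = 1 := by
      rcases mul_eq_zero.1 (show x 0 * (x 0 - 1) = 0 by linear_combination e0) with f | f
      · exact Or.inl f
      · exact Or.inr (sub_eq_zero.1 f)
    have f7 : x 7 = 0 ∨ x 7 = 1 := by
      rcases mul_eq_zero.1 (show x 7 * (x 7 - 1) = 0 by linear_combination e7) with f | f
      · exact Or.inl f
      · exact Or.inr (sub_eq_zero.1 f)
    show x 0 + x 7 = 1 ∧ x 0 * x 7 = dot3 (zA F x) (zB F x)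
    rw [ha, dot3_zero_left]
    rcases f0 with f | f <;> rcases f7 with g | g <;> rw [f, g] at h0 h1 ⊢
    · exact absurd (by funext i; fin_cases i <;> rfl) h0
    · simp
    · simp
    · exact absurd rfl h1

theorem act_eO_mem (g : G2 F) : act g (eO F) ∈ Idem F := by
  refine idem_of_sq ?_ ?_ ?_
  · rw [← act_mul_apply, eO, zornMul_zVec]
    simp [cross3_zero_left, dot3_zero_left]
  · intro h
    rw [← map_zero (act g : (Fin 8 → F) →ₗ[F] (Fin 8 → F))] at h
    exact one_ne_zero (congrFun ((act g).injective h) 0)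
  · intro h
    rw [← act_oneO g] at h
    exact one_ne_zero (congrFun ((act g).injective h) 7).symm

theorem coM_mulVec_transpose (A : SpecialLinearGroup (Fin 3) F) (v : Fin 3 → F) :
    (coM A).mulVec ((A : Matrix (Fin 3) (Fin 3) F)ᵀ.mulVec v) = v := by
  rw [Matrix.mulVec_mulVec, coM, ← Matrix.transpose_mul, Matrix.mul_adjugate, A.2, one_smul,
    Matrix.transpose_one, Matrix.one_mulVec]

theorem coM_zero (A : SpecialLinearGroup (Fin 3) F) : (coM A).mulVec (0 : Fin 3 → F) = 0 :=
  Matrix.mulVec_zero _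

/-- An element of `SL₃` with two prescribed first rows orthogonal as required. -/
theorem exists_SL (r0 r1 r2 : Fin 3 → F) (h : r0 ⬝ᵥ cross3 r1 r2 ≠ 0) :
    ∃ (A : SpecialLinearGroup (Fin 3) F) (t : F), (A : Matrix (Fin 3) (Fin 3) F) 0 = r0 ∧
      (A : Matrix (Fin 3) (Fin 3) F) 1 = r1 ∧ (A : Matrix (Fin 3) (Fin 3) F) 2 = t • r2 := by
  refine ⟨⟨Matrix.of ![r0, r1, (r0 ⬝ᵥ cross3 r1 r2)⁻¹ • r2], ?_⟩, _, rfl, rfl, rfl⟩
  have : (Matrix.of ![r0, r1, (r0 ⬝ᵥ cross3 r1 r2)⁻¹ • r2]).det =
      (r0 ⬝ᵥ cross3 r1 r2)⁻¹ * (r0 ⬝ᵥ cross3 r1 r2) := by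
    rw [Matrix.det_fin_three]
    simp [cross3, dotProduct, Fin.sum_univ_three]
    ring
  rw [this, inv_mul_cancel₀ h]

theorem exists_normalize (a b : Fin 3 → F) (hab : a ⬝ᵥ b ≠ 0) :
    ∃ A : SpecialLinearGroup (Fin 3) F, (A : Matrix (Fin 3) (Fin 3) F).mulVec a = Pi.single 0 1 ∧
      (coM A).mulVec b = (a ⬝ᵥ b) • Pi.single 0 1 := by
  obtain ⟨i, hi⟩ : ∃ i, a i ≠ 0 := by
    by_contra h; push Not at h
    exact hab (by simp [dotProduct, h])
  have hne : ((a ⬝ᵥ b)⁻¹ • b) ⬝ᵥ cross3 (cross3 a (Pi.single (i + 1) 1)) (cross3 a (Pi.single (i + 2) 1)) ≠ 0 := by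
    have e : ((a ⬝ᵥ b)⁻¹ • b) ⬝ᵥ cross3 (cross3 a (Pi.single (i + 1) 1)) (cross3 a (Pi.single (i + 2) 1)) =
        (a ⬝ᵥ b)⁻¹ * (a ⬝ᵥ b) * a i := by
      fin_cases i <;> simp [cross3, dotProduct, Fin.sum_univ_three] <;> ring
    rw [e, inv_mul_cancel₀ hab, one_mul]
    exact hi
  obtain ⟨A, t, h0, h1, h2⟩ := exists_SL _ _ _ hne
  refine ⟨A, funext fun j => ?_, ?_⟩
  · show (A : Matrix (Fin 3) (Fin 3) F) j ⬝ᵥ a = _
    fin_cases j
    · rw [show ((⟨0, by norm_num⟩ : Fin 3)) = 0 from rfl, h0, smul_dotProduct, dotProduct_comm b a,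
        smul_eq_mul, inv_mul_cancel₀ hab, Pi.single_eq_same]
    · rw [show ((⟨1, by norm_num⟩ : Fin 3)) = 1 from rfl, h1]
      simp [cross3, dotProduct, Fin.sum_univ_three]; ring
    · rw [show ((⟨2, by norm_num⟩ : Fin 3)) = 2 from rfl, h2]
      simp [cross3, dotProduct, Fin.sum_univ_three]; ring
  · have hb : b = (A : Matrix (Fin 3) (Fin 3) F)ᵀ.mulVec ((a ⬝ᵥ b) • Pi.single 0 1) := by
      rw [Matrix.mulVec_smul, Matrix.mulVec_single_one, Matrix.col_transpose]
      show b = (a ⬝ᵥ b) • (A : Matrix (Fin 3) (Fin 3) F) 0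
      rw [h0, smul_smul, mul_inv_cancel₀ hab, one_smul]
    conv_lhs => rw [hb]
    rw [coM_mulVec_transpose]

theorem exists_normalize_zero (a b : Fin 3 → F) (ha : a ≠ 0) (hb : b ≠ 0) (hab : a ⬝ᵥ b = 0) :
    ∃ A : SpecialLinearGroup (Fin 3) F, (A : Matrix (Fin 3) (Fin 3) F).mulVec a = Pi.single 0 1 ∧
      (coM A).mulVec b = Pi.single 1 1 := by
  obtain ⟨i, hi⟩ := Function.ne_iff.1 ha
  obtain ⟨j, hj⟩ := Function.ne_iff.1 hb
  have hi' : a i ≠ 0 := hi
  have e : ((a i)⁻¹ • Pi.single i (1 : F)) ⬝ᵥ cross3 b (cross3 a (Pi.single j 1)) =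
      (a i)⁻¹ * a i * b j := by
    rw [dotProduct, Fin.sum_univ_three] at hab
    fin_cases i <;> fin_cases j <;> simp [cross3, dotProduct, Fin.sum_univ_three] <;>
      first
        | ring1
        | linear_combination (-(a 0)⁻¹) * hab
        | linear_combination (-(a 1)⁻¹) * hab
        | linear_combination (-(a 2)⁻¹) * hab
  obtain ⟨A, t, h0, h1, h2⟩ := exists_SL ((a i)⁻¹ • Pi.single i (1 : F)) b (cross3 a (Pi.single j 1))
    (by rw [e, inv_mul_cancel₀ hi', one_mul]; exact hj)
  refine ⟨A, funext fun l => ?_, ?_⟩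
  · show (A : Matrix (Fin 3) (Fin 3) F) l ⬝ᵥ a = _
    fin_cases l
    · rw [show ((⟨0, by norm_num⟩ : Fin 3)) = 0 from rfl, h0, smul_dotProduct, single_dotProduct,
        one_mul, smul_eq_mul, inv_mul_cancel₀ hi', Pi.single_eq_same]
    · rw [show ((⟨1, by norm_num⟩ : Fin 3)) = 1 from rfl, h1, dotProduct_comm, hab]
      simp
    · rw [show ((⟨2, by norm_num⟩ : Fin 3)) = 2 from rfl, h2]
      simp [cross3, dotProduct, Fin.sum_univ_three]; ring
  · have hb' : b = (A : Matrix (Fin 3) (Fin 3) F)ᵀ.mulVec (Pi.single 1 1) := by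
      rw [Matrix.mulVec_single_one, Matrix.col_transpose]; exact h1.symm
    conv_lhs => rw [hb']
    rw [coM_mulVec_transpose]

theorem pair_mem {a : GL (Fin 2) F} : ((a, a) : GL (Fin 2) F × GL (Fin 2) F) ∈ Pairs F :=
  show _ * _ = (1 : Fˣ) from mul_inv_cancel _

theorem exists_act_quaternion {x : Fin 8 → F} (hx : x ∈ Idem F) (hN : zN x = 0) :
    ∃ g : G2 F, act g x = eO F := by
  obtain ⟨hs, hp⟩ := hx
  have n1 := congrFun (congrFun hN 0) 0
  have n2 := congrFun (congrFun hN 1) 0
  have n3 := congrFun (congrFun hN 1) 1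
  have n4 := congrFun (congrFun hN 0) 1
  simp [zN] at n1 n2 n3 n4
  simp [zA, zB, dot3, n1, n2, n3, n4] at hp
  obtain ⟨P, P', h1, h2⟩ : ∃ P : Matrix (Fin 2) (Fin 2) F, ∃ _ : P.det ≠ 0,
      zH x * P = P * !![1, 0; 0, 0] ∧ True := by
    by_cases h0 : x 0 = 0
    · refine ⟨!![x 1, 1; 1, -x 4], ?_, ?_, trivial⟩
      · rw [h0, zero_mul] at hp
        rw [Matrix.det_fin_two_of]
        intro h
        exact one_ne_zero (α := F) (by linear_combination -h + hp)
      · rw [h0, zero_add] at hs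
        rw [h0, zero_mul] at hp
        ext i j
        fin_cases i <;> fin_cases j <;>
          simp [zH, Matrix.mul_apply, Fin.sum_univ_two, h0, hs] <;>
            first
              | ring1
              | linear_combination hp
              | linear_combination -hp
              | exact mul_eq_zero.1 (by linear_combination hp)
              | exact mul_eq_zero.1 (by linear_combination -hp)
    · refine ⟨!![x 0, -x 1; x 4, x 0], ?_, ?_, trivial⟩
      · rw [Matrix.det_fin_two_of]
        intro h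
        exact h0 (by linear_combination h + hp - (x 0) * hs)
      · ext i j
        fin_cases i <;> fin_cases j <;>
          simp [zH, Matrix.mul_apply, Fin.sum_univ_two] <;>
            first
              | ring1
              | linear_combination (x 0) * hs - hp
              | linear_combination (x 4) * hs
              | linear_combination hp
              | linear_combination -hp
  let p : GL (Fin 2) F := Matrix.GeneralLinearGroup.mkOfDetNeZero P P'
  refine ⟨pairHom ⟨(p⁻¹, p⁻¹), pair_mem⟩, ?_⟩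
  rw [act_pairHom]
  refine z_ext ?_ ?_
  · rw [pairFun, zH_zMk, inv_inv]
    have hp' : (p : Matrix (Fin 2) (Fin 2) F) = P := rfl
    rw [Matrix.mul_assoc, hp', h1, ← Matrix.mul_assoc, ← hp', p.inv_mul, Matrix.one_mul]
    ext i j
    fin_cases i <;> fin_cases j <;> simp [zH, eO, zVec]
  · rw [pairFun, zN_zMk, hN, Matrix.mul_zero, Matrix.zero_mul]
    ext i j
    fin_cases i <;> fin_cases j <;> simp [zN, eO, zVec]

theorem slFun_idem {x : Fin 8 → F} (hx : x ∈ Idem F) (A : SpecialLinearGroup (Fin 3) F) :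
    slFun A x ∈ Idem F := by
  refine ⟨hx.1, ?_⟩
  rw [slFun, zA_zVec, zB_zVec, dot_coM]
  exact hx.2

theorem pairFun_idem {x : Fin 8 → F} (hx : x ∈ Idem F) (g : G2 F) : act g x ∈ Idem F := by
  refine idem_of_sq ?_ ?_ ?_
  · rw [← act_mul_apply]
    congr 1
    obtain ⟨hs, hp⟩ := hx
    conv_lhs => rw [← zVec_self x, zornMul_zVec, cross3_self, cross3_self, sub_zero, add_zero]
    conv_rhs => rw [← zVec_self x]
    have hd : dot3 (zB F x) (zA F x) = dot3 (zA F x) (zB F x) := by simp [dot3, mul_comm]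
    rw [hd, ← add_smul, ← add_smul, hs, one_smul, one_smul, ← hp]
    congr 1
    · linear_combination (x 0) * hs
    · linear_combination (x 7) * hs
  · intro h
    rw [← map_zero (act g : (Fin 8 → F) →ₗ[F] (Fin 8 → F))] at h
    have h' := (act g).injective h
    exact one_ne_zero (α := F) (by rw [← hx.1, h']; simp)
  · intro h
    rw [← act_oneO g] at h
    have h' := (act g).injective h
    have h2 := hx.2
    rw [h', oneO, zA_zVec, zB_zVec, dot3_zero_left, zVec_zero, zVec_seven, one_mul] at h2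
    exact one_ne_zero h2

theorem exists_act_eO {x : Fin 8 → F} (hx : x ∈ Idem F) : ∃ g : G2 F, act g x = eO F := by
  -- reduce to vanishing orthogonal part
  have fin : ∀ {y : Fin 8 → F}, y ∈ Idem F → ∀ (A : SpecialLinearGroup (Fin 3) F) (r s : F),
      (A : Matrix (Fin 3) (Fin 3) F).mulVec (zA F y) = r • Pi.single 0 1 →
      (coM A).mulVec (zB F y) = s • Pi.single 0 1 → ∃ g : G2 F, act g y = eO F := by
    intro y hy A r s h1 h2
    obtain ⟨g, hg⟩ := exists_act_quaternion (slFun_idem hy A) (by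
      ext i j
      fin_cases i <;> fin_cases j <;> simp [slFun, zN, zVec, h1, h2])
    exact ⟨g * slHom A, by rw [map_mul, LinearEquiv.mul_apply, act_slHom, hg]⟩
  have zero_left : ∀ {y : Fin 8 → F}, y ∈ Idem F → zA F y = 0 → ∃ g : G2 F, act g y = eO F := by
    intro y hy ha
    by_cases hb : zB F y = 0
    · exact fin hy 1 0 0 (by simp [ha]) (by simp [hb])
    obtain ⟨j, hj⟩ := Function.ne_iff.1 hb
    have hj' : Pi.single j (1 : F) ⬝ᵥ zB F y ≠ 0 := by rwa [single_dotProduct, one_mul]
    obtain ⟨A, -, h2⟩ := exists_normalize _ _ hj'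
    exact fin hy A 0 _ (by rw [ha, Matrix.mulVec_zero, zero_smul]) h2
  by_cases hab : zA F x ⬝ᵥ zB F x = 0
  · by_cases ha : zA F x = 0
    · exact zero_left hx ha
    by_cases hb : zB F x = 0
    · obtain ⟨i, hi⟩ := Function.ne_iff.1 ha
      have hi' : zA F x ⬝ᵥ Pi.single i (1 : F) ≠ 0 := by rwa [dotProduct_single, mul_one]
      obtain ⟨A, h1, -⟩ := exists_normalize _ _ hi'
      exact fin hx A 1 0 (by rw [h1, one_smul]) (by rw [hb, Matrix.mulVec_zero, zero_smul])
    obtain ⟨A, h1, h2⟩ := exists_normalize_zero _ _ ha hb hab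
    have hy := slFun_idem hx A
    have hp := hx.2
    rw [dot3_eq, hab] at hp
    have hs := hx.1
    obtain ⟨s, hs'⟩ : ∃ s : F, s = x 0 - x 7 := ⟨_, rfl⟩
    let p : GL (Fin 2) F := Matrix.GeneralLinearGroup.mkOfDetNeZero !![1, s; 0, 1]
      (by simp [Matrix.det_fin_two_of])
    have hp' : ((p⁻¹ : GL (Fin 2) F) : Matrix (Fin 2) (Fin 2) F) = !![1, -s; 0, 1] := by
      refine Units.inv_eq_of_mul_eq_one_right ?_
      show !![1, s; 0, 1] * !![1, -s; 0, 1] = 1
      simp [Matrix.mul_fin_two, Matrix.one_fin_two]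
    have hz : zA F (act (pairHom ⟨(p, p), pair_mem⟩) (slFun A x)) = 0 := by
      rw [act_pairHom, pairFun, hp']
      rcases mul_eq_zero.1 hp with h0 | h7
      · rw [h0, zero_add] at hs
        rw [h0, hs] at hs'
        funext l
        fin_cases l <;>
          simp [zA, zMk, zH, zN, slFun, zVec, p, Matrix.mul_apply, Fin.sum_univ_two, h1, h2, h0, hs, hs']
      · rw [h7, add_zero] at hs
        rw [h7, hs] at hs'
        funext l
        fin_cases l <;>
          simp [zA, zMk, zH, zN, slFun, zVec, p, Matrix.mul_apply, Fin.sum_univ_two, h1, h2, h7, hs, hs']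
    obtain ⟨g, hg⟩ := zero_left (pairFun_idem hy _) hz
    exact ⟨g * pairHom ⟨(p, p), pair_mem⟩ * slHom A, by
      rw [map_mul, map_mul, LinearEquiv.mul_apply, LinearEquiv.mul_apply, act_slHom, hg]⟩
  · obtain ⟨A, h1, h2⟩ := exists_normalize _ _ hab
    exact fin hx A 1 _ (by rw [h1, one_smul]) h2

theorem exists_slHom_of_fix {g : G2 F} (hg : act g (eO F) = eO F) : ∃ A, slHom A = g := by
  have hL : ∀ x, zornMul (eO F) x = zVec (x 0) (zA F x) 0 0 := fun x => by
    conv_lhs => rw [eO, ← zVec_self x, zornMul_zVec]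
    simp [cross3_zero_left, dot3_zero_left]
  have hR : ∀ x, zornMul x (eO F) = zVec (x 0) 0 (zB F x) 0 := fun x => by
    conv_lhs => rw [eO, ← zVec_self x, zornMul_zVec]
    simp [cross3_zero_right, dot3_zero_right]
  have zv0 : (zVec 0 0 0 0 : Fin 8 → F) = 0 := by funext i; fin_cases i <;> rfl
  have hA : ∀ a : Fin 3 → F, act g (zVec 0 a 0 0) = zVec 0 (zA F (act g (zVec 0 a 0 0))) 0 0 := by
    intro a
    have e1 : zornMul (eO F) (zVec 0 a 0 0) = zVec 0 a 0 0 := by rw [hL, zVec_zero, zA_zVec]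
    have e2 : zornMul (zVec 0 a 0 0) (eO F) = 0 := by rw [hR, zVec_zero, zB_zVec, zv0]
    have f1 := congrArg (act g) e1
    have f2 := congrArg (act g) e2
    rw [act_mul_apply, hg, hL] at f1
    rw [act_mul_apply, hg, hR, map_zero] at f2
    conv_lhs => rw [← f1]
    rw [show act g (zVec 0 a 0 0) 0 = 0 from congrFun f2 0]
  have hB : ∀ b : Fin 3 → F, act g (zVec 0 0 b 0) = zVec 0 0 (zB F (act g (zVec 0 0 b 0))) 0 := by
    intro b
    have e1 : zornMul (zVec 0 0 b 0) (eO F) = zVec 0 0 b 0 := by rw [hR, zVec_zero, zB_zVec]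
    have e2 : zornMul (eO F) (zVec 0 0 b 0) = 0 := by rw [hL, zVec_zero, zA_zVec, zv0]
    have f1 := congrArg (act g) e1
    have f2 := congrArg (act g) e2
    rw [act_mul_apply, hg, hR] at f1
    rw [act_mul_apply, hg, hL, map_zero] at f2
    conv_lhs => rw [← f1]
    rw [show act g (zVec 0 0 b 0) 0 = 0 from congrFun f2 0]
  let la : (Fin 3 → F) →ₗ[F] (Fin 3 → F) :=
    { toFun := fun a => zA F (act g (zVec 0 a 0 0))
      map_add' := fun a b => by
        rw [← zA_add, ← map_add]
        congr 2; funext i; fin_cases i <;> simp [zVec]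
      map_smul' := fun r a => by
        rw [RingHom.id_apply, ← zA_smul, ← map_smul]
        congr 2; funext i; fin_cases i <;> simp [zVec] }
  let lb : (Fin 3 → F) →ₗ[F] (Fin 3 → F) :=
    { toFun := fun b => zB F (act g (zVec 0 0 b 0))
      map_add' := fun a b => by
        rw [← zB_add, ← map_add]
        congr 2; funext i; fin_cases i <;> simp [zVec]
      map_smul' := fun r a => by
        rw [RingHom.id_apply, ← zB_smul, ← map_smul]
        congr 2; funext i; fin_cases i <;> simp [zVec] }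
  have hA' : ∀ a, act g (zVec 0 a 0 0) = zVec 0 (la a) 0 0 := hA
  have hB' : ∀ b, act g (zVec 0 0 b 0) = zVec 0 0 (lb b) 0 := hB
  have hcr : ∀ a c, lb (cross3 a c) = cross3 (la a) (la c) := fun a c => by
    have e : zornMul (zVec 0 a 0 0) (zVec 0 c 0 0) = zVec 0 0 (cross3 a c) 0 := by
      rw [zornMul_zVec]; simp [cross3_zero_left, dot3_zero_left, dot3_zero_right]
    have f := congrArg (act g) e
    rw [act_mul_apply, hA', hA', hB', zornMul_zVec] at f
    simpa [cross3_zero_left, dot3_zero_left, dot3_zero_right] using (zVec_inj f).2.2.1.symm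
  have hdot : ∀ a b, dot3 (la a) (lb b) = dot3 a b := fun a b => by
    have e : zornMul (zVec 0 a 0 0) (zVec 0 0 b 0) = dot3 a b • eO F := by
      rw [zornMul_zVec, eO]; funext i; fin_cases i <;> simp [zVec, dot3, cross3]
    have f := congrArg (act g) e
    rw [act_mul_apply, hA', hB', map_smul, hg, zornMul_zVec] at f
    simpa [eO, zVec] using congrFun f 0
  set M := LinearMap.toMatrix' la with hM
  have hla : ∀ a, la a = M.mulVec a := fun a => by rw [hM, LinearMap.toMatrix'_mulVec]
  have hcof : ∀ v, lb v = (adjugate M)ᵀ.mulVec v := by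
    have hgen : ∀ a c, cross3 (M.mulVec a) (M.mulVec c) = (adjugate M)ᵀ.mulVec (cross3 a c) := by
      intro a c
      funext i
      fin_cases i <;>
        simp [cross3, Matrix.adjugate_fin_three, Matrix.mulVec, dotProduct, Fin.sum_univ_three] <;>
        ring
    have hlm : lb = Matrix.mulVecLin (adjugate M)ᵀ := by
      refine (Pi.basisFun F (Fin 3)).ext fun i => ?_
      rw [Pi.basisFun_apply, Matrix.mulVecLin_apply]
      have hi : Pi.single i (1 : F) = cross3 (Pi.single (i + 1) 1) (Pi.single (i + 2) 1) := by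
        funext l; fin_cases i <;> fin_cases l <;> simp [cross3]
      rw [hi, hcr, hla, hla, hgen]
    intro v; rw [hlm, Matrix.mulVecLin_apply]
  have hdet : M.det = 1 := by
    have h := hdot (Pi.single 0 1) (Pi.single 0 1)
    rw [hla, hcof, dot3_eq, dot3_eq, Matrix.dotProduct_mulVec, Matrix.vecMul_transpose,
      Matrix.mulVec_mulVec, Matrix.adjugate_mul, Matrix.smul_mulVec, Matrix.one_mulVec,
      smul_dotProduct, single_dotProduct, one_mul, Pi.single_eq_same, smul_eq_mul, mul_one] at h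
    exact h
  refine ⟨⟨M, hdet⟩, act_injective (LinearEquiv.ext fun x => ?_)⟩
  refine (act_slHom (⟨M, hdet⟩ : SpecialLinearGroup (Fin 3) F) x).trans ?_
  have hdec : x = x 0 • eO F + x 7 • (oneO F - eO F) + (zVec 0 (zA F x) 0 0 + zVec 0 0 (zB F x) 0) := by
    funext i; fin_cases i <;> simp [eO, oneO, zVec, zA, zB]
  conv_rhs => rw [hdec, map_add, map_add, map_add, map_smul, map_smul, map_sub, hg, act_oneO, hA',
    hB', hla, hcof]
  funext i
  fin_cases i <;> simp [slFun, eO, oneO, zVec, coM]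

theorem slHom_injective : Function.Injective (slHom : SpecialLinearGroup (Fin 3) F → G2 F) := by
  intro A B h
  refine Subtype.ext (Matrix.ext fun i j => ?_)
  have := congrArg (fun g => zA F (act g (zVec 0 (Pi.single j 1) 0 0)) i) h
  simp only [act_slHom, slFun, zA_zVec] at this
  simpa [Matrix.mulVec_single_one] using this

variable [Fintype F]

theorem card_dot_fiber (a : Fin 3 → F) (ha : a ≠ 0) (c : F) :
    Nat.card {b : Fin 3 → F // a ⬝ᵥ b = c} = Fintype.card F ^ 2 := by
  obtain ⟨i, hi⟩ := Function.ne_iff.1 ha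
  let f : (Fin 3 → F) →+ F := AddMonoidHom.mk' (fun b => a ⬝ᵥ b) (fun b b' => dotProduct_add a b b')
  have hsurj : Function.Surjective f := fun r => ⟨Pi.single i (r / a i), by
    show a ⬝ᵥ _ = r
    rw [dotProduct_single]
    exact mul_div_cancel₀ r hi⟩
  obtain ⟨b₀, hb₀⟩ := hsurj c
  have e : {b : Fin 3 → F // a ⬝ᵥ b = c} ≃ f.ker :=
    { toFun := fun b => ⟨b.1 - b₀, by
        rw [AddMonoidHom.mem_ker, map_sub, hb₀]
        show a ⬝ᵥ b.1 - c = 0
        rw [b.2, sub_self]⟩
      invFun := fun b => ⟨b.1 + b₀, by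
        show f (b.1 + b₀) = c
        rw [map_add, hb₀, AddMonoidHom.mem_ker.1 b.2, zero_add]⟩
      left_inv := fun b => Subtype.ext (sub_add_cancel _ _)
      right_inv := fun b => Subtype.ext (add_sub_cancel_right _ _) }
  have h := f.ker.card_mul_index
  rw [AddSubgroup.index_ker, AddMonoidHom.range_eq_top.2 hsurj, AddSubgroup.card_top,
    Nat.card_fun, Nat.card_fin, Nat.card_eq_fintype_card (α := F)] at h
  rw [Nat.card_congr e]
  exact Nat.eq_of_mul_eq_mul_right Fintype.card_pos (h.trans (pow_succ _ 2))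

theorem card_Idem : Nat.card (Idem F) = Fintype.card F ^ 6 + Fintype.card F ^ 3 := by
  classical
  let e : Idem F ≃ Σ p : F × (Fin 3 → F), {b : Fin 3 → F // p.2 ⬝ᵥ b = p.1 * (1 - p.1)} :=
    { toFun := fun x => ⟨(x.1 0, zA F x.1), zB F x.1, by
        rw [← dot3_eq, ← x.2.2, show x.1 7 = 1 - x.1 0 from eq_sub_of_add_eq' x.2.1]⟩
      invFun := fun p => ⟨zVec p.1.1 p.1.2 p.2.1 (1 - p.1.1), by
        refine ⟨?_, ?_⟩
        · rw [zVec_zero, zVec_seven, add_sub_cancel]
        · rw [zA_zVec, zB_zVec, zVec_zero, zVec_seven, dot3_eq, p.2.2]⟩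
      left_inv := fun x => Subtype.ext (by
        show zVec (x.1 0) (zA F x.1) (zB F x.1) (1 - x.1 0) = x.1
        rw [← eq_sub_of_add_eq' x.2.1, zVec_self])
      right_inv := fun p => by
        obtain ⟨⟨α, a⟩, b, hb⟩ := p
        exact Sigma.subtype_ext (Prod.ext rfl (show zA F (zVec α a b (1 - α)) = a from zA_zVec _ _ _ _)) (show zB F (zVec α a b (1 - α)) = b from zB_zVec _ _ _ _) }
  rw [Nat.card_congr e, Nat.card_sigma, Fintype.sum_prod_type, Finset.sum_comm,
    ← Finset.add_sum_erase _ _ (Finset.mem_univ (0 : Fin 3 → F))]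
  have h0 : ∀ α : F, Nat.card {b : Fin 3 → F // (0 : Fin 3 → F) ⬝ᵥ b = α * (1 - α)} =
      if α ∈ ({0, 1} : Finset F) then Fintype.card F ^ 3 else 0 := by
    intro α
    split_ifs with h
    · have hz : α * (1 - α) = 0 := by
        rcases Finset.mem_insert.1 h with rfl | h
        · simp
        · rw [Finset.mem_singleton.1 h]; simp
      rw [hz, Nat.card_congr (Equiv.subtypeUnivEquiv fun b => zero_dotProduct b), Nat.card_fun,
        Nat.card_fin, Nat.card_eq_fintype_card]
    · rw [Nat.card_eq_zero]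
      refine Or.inl ⟨fun b => ?_⟩
      have := b.2
      rw [zero_dotProduct, eq_comm, mul_eq_zero, sub_eq_zero] at this
      rcases this with h' | h'
      · exact h (by simp [h'])
      · exact h (by simp [← h'])
  rw [Finset.sum_congr rfl fun α _ => h0 α, Finset.sum_ite_mem, Finset.univ_inter,
    Finset.sum_congr rfl fun a ha => Finset.sum_congr rfl fun α _ =>
      card_dot_fiber a (Finset.ne_of_mem_erase ha) (α * (1 - α))]
  simp only [Finset.sum_const, Finset.card_erase_of_mem (Finset.mem_univ _), Finset.card_univ,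
    Fintype.card_fun, Fintype.card_fin, smul_eq_mul, Finset.card_pair zero_ne_one]
  have h1 : 1 ≤ Fintype.card F ^ 3 := Nat.one_le_pow _ _ Fintype.card_pos
  zify [h1]
  ring

/-- `|G₂(q)| = (q⁶ + q³) |SL₃(q)|`. -/
theorem card_G2 : Nat.card (G2 F) =
    (Fintype.card F ^ 6 + Fintype.card F ^ 3) * Nat.card (SpecialLinearGroup (Fin 3) F) := by
  classical
  letI : MulAction (G2 F) (Fin 8 → F) :=
    { smul := fun g x => act g x
      one_smul := fun x => by show act 1 x = x; rw [map_one]; rfl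
      mul_smul := fun g h x => by show act (g * h) x = act g (act h x); rw [map_mul]; rfl }
  have horb : MulAction.orbit (G2 F) (eO F) = Idem F := by
    ext x
    constructor
    · rintro ⟨g, rfl⟩; exact act_eO_mem g
    · intro hx
      obtain ⟨g, hg⟩ := exists_act_eO hx
      refine ⟨g⁻¹, ?_⟩
      show act g⁻¹ (eO F) = x
      rw [← hg, map_inv]
      exact (act g).symm_apply_apply x
  have hst : MulAction.stabilizer (G2 F) (eO F) = slHom.range := by
    ext g
    constructor
    · exact fun hg => exists_slHom_of_fix hg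
    · rintro ⟨A, rfl⟩
      show act (slHom A) (eO F) = eO F
      rw [act_slHom, slFun]
      funext i
      fin_cases i <;> simp [eO, zVec, zA, zB, mulVec, dotProduct, Fin.sum_univ_three]
  rw [Nat.card_congr (MulAction.orbitProdStabilizerEquivGroup (G2 F) (eO F)).symm, Nat.card_prod]
  exact congrArg₂ (· * ·) ((Nat.card_congr (Equiv.setCongr horb)).trans card_Idem)
    ((Nat.card_congr (MulEquiv.subgroupCongr hst).toEquiv).trans
      (Nat.card_congr (MonoidHom.ofInjective slHom_injective).toEquiv.symm))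

end CfsgLib.Classical.SylowAb.Octonion
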