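import Cfsg.Agent.Lib.Classical.SylowAb.Linear
import Cfsg.Agent.Lib.Classical.SylowAb.G2Order

/-!
Sylow 2-subgroups of `G₂(q)`, `q` odd: they lie in the image of pairs from `GL₂ × GL₂`.
-/

set_option autoImplicit false

namespace CfsgLib.Classical.SylowAb.Octonion

open Matrix CfsgLib.Classical.SylowAb
open Cfsg.Lie (zornMul G2)
open scoped commutatorElement

universe u v

theorem exists_sylow_comap {G : Type u} [Group G] [Finite G] {N : Type v} [Group N] (j : N →* G)
    (hj : Function.Injective j) (hN : j.range.Normal) (S : Sylow 2 G) :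
    ∃ R : Sylow 2 N, (R : Subgroup N) = (S : Subgroup G).comap j := by
  haveI : Fact (Nat.Prime 2) := ⟨Nat.prime_two⟩
  haveI : Finite N := Finite.of_injective j hj
  obtain ⟨R, hR⟩ := (S.2.comap_of_injective j hj).exists_le_sylow
  obtain ⟨P, hP⟩ := (R.2.map j).exists_le_sylow
  obtain ⟨g, rfl⟩ := MulAction.exists_smul_eq G S P
  have hle : (R : Subgroup N).map j ≤
      ((S : Subgroup G) ⊓ j.range).map (MulAut.conj g).toMonoidHom := by
    intro x hx
    have hx' : x ∈ (S : Subgroup G).map (MulAut.conj g).toMonoidHom := hP hx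
    obtain ⟨y, hy, rfl⟩ := hx'
    refine Subgroup.mem_map_of_mem _ ⟨hy, ?_⟩
    have := hN.conj_mem _ (Subgroup.map_le_range j _ hx) g⁻¹
    simpa [MulAut.conj_apply, mul_assoc] using this
  have hc : Nat.card (R : Subgroup N) ≤ Nat.card ((S : Subgroup G).comap j) := by
    rw [← Subgroup.card_map_of_injective hj (K := (R : Subgroup N)),
      ← Subgroup.card_map_of_injective hj (K := (S : Subgroup G).comap j), Subgroup.map_comap_eq,
      inf_comm]
    refine (Subgroup.card_le_of_le hle).trans ?_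
    rw [Subgroup.card_map_of_injective (MulAut.conj g).injective]
  exact ⟨R, (Subgroup.eq_of_le_of_card_ge hR hc).symm⟩

variable {F : Type*} [Field F]

/-- `diag(u, v)`. -/
def diagPair : Fˣ × Fˣ →* GL (Fin 2) F where
  toFun c := ⟨!![(c.1 : F), 0; 0, c.2], !![((c.1⁻¹ : Fˣ) : F), 0; 0, ((c.2⁻¹ : Fˣ) : F)],
    by simp [Matrix.mul_fin_two, Matrix.one_fin_two], by simp [Matrix.mul_fin_two, Matrix.one_fin_two]⟩
  map_one' := Units.ext (by simp [Matrix.one_fin_two])
  map_mul' a b := Units.ext (by simp [Matrix.mul_fin_two])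

/-- The antidiagonal involution. -/
def swapTwo : GL (Fin 2) F :=
  ⟨!![0, 1; 1, 0], !![0, 1; 1, 0], by simp [Matrix.mul_fin_two, Matrix.one_fin_two],
    by simp [Matrix.mul_fin_two, Matrix.one_fin_two]⟩

theorem swapTwo_inv : (swapTwo : GL (Fin 2) F)⁻¹ = swapTwo := Units.ext rfl

theorem swapTwo_conj (c : Fˣ × Fˣ) :
    swapTwo * diagPair c * (swapTwo : GL (Fin 2) F)⁻¹ = diagPair c.swap := by
  rw [swapTwo_inv]
  exact Units.ext (by simp [swapTwo, diagPair, Matrix.mul_fin_two])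

theorem diagTwo_eq (c : Fˣ) : diagTwo c = diagPair (c, 1) := Units.ext (by simp [diagTwo, diagPair])

theorem diagTwo_sq (c : Fˣ) :
    diagTwo c ^ 2 = diagPair (c, c) * ⁅diagTwo c, (swapTwo : GL (Fin 2) F)⁆ := by
  rw [commutatorElement_def, mul_assoc (diagTwo c), mul_assoc (diagTwo c), diagTwo_eq, ← map_inv,
    swapTwo_conj, ← map_mul, ← map_mul, pow_two, ← map_mul]
  congr 1
  refine Prod.ext ?_ ?_ <;> simp

theorem det_swapTwo_ne : (swapTwo : GL (Fin 2) F) * swapTwo = 1 :=
  Units.ext (by simp [swapTwo, Matrix.mul_fin_two, Matrix.one_fin_two])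

variable [Fintype F]

/-- A Sylow subgroup of `GL₂` containing the monomial 2-matrices. -/
theorem exists_sylow_monomial (hF : Odd (Fintype.card F)) :
    ∃ (S : Sylow 2 (GL (Fin 2) F)) (C : Sylow 2 Fˣ),
      (swapTwo : GL (Fin 2) F) ∈ (S : Subgroup (GL (Fin 2) F)) ∧
      (∀ c ∈ (C : Subgroup Fˣ), diagTwo c ∈ (S : Subgroup (GL (Fin 2) F))) ∧
      (∀ s ∈ (S : Subgroup (GL (Fin 2) F)), Matrix.GeneralLinearGroup.det s ∈ (C : Subgroup Fˣ)) ∧
      SqComm ((S : Subgroup (GL (Fin 2) F)).comap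
        (Matrix.SpecialLinearGroup.toGL : SpecialLinearGroup (Fin 2) F →* GL (Fin 2) F)) := by
  haveI : Fact (Nat.Prime 2) := ⟨Nat.prime_two⟩
  obtain ⟨C⟩ : Nonempty (Sylow 2 Fˣ) := inferInstance
  set D := ((C : Subgroup Fˣ).prod (C : Subgroup Fˣ)).map (diagPair (F := F)) with hD
  have hDp : IsPGroup 2 D := by
    refine IsPGroup.map ?_ _
    obtain ⟨n, hn⟩ := IsPGroup.iff_card.1 C.2
    refine IsPGroup.of_card (n := n + n) ?_
    rw [Nat.card_congr (Subgroup.prodEquiv _ _).toEquiv, Nat.card_prod, hn, pow_add]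
  have hZp : IsPGroup 2 (Subgroup.zpowers (swapTwo : GL (Fin 2) F)) := by
    intro g
    obtain ⟨k, hk⟩ := g.2
    refine ⟨1, Subtype.ext ?_⟩
    rw [Subgroup.coe_pow, ← hk, pow_one, ← zpow_natCast, ← _root_.zpow_mul, mul_comm, _root_.zpow_mul,
      zpow_natCast, pow_two, det_swapTwo_ne, _root_.one_zpow, Subgroup.coe_one]
  have hnorm : Subgroup.zpowers (swapTwo : GL (Fin 2) F) ≤
      Subgroup.normalizer (D : Set (GL (Fin 2) F)) := by
    rw [Subgroup.zpowers_le]
    have hin : ∀ h ∈ D, (swapTwo : GL (Fin 2) F) * h * swapTwo⁻¹ ∈ D := by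
      rintro _ ⟨c, hc, rfl⟩
      rw [swapTwo_conj]
      exact Subgroup.mem_map_of_mem _ ⟨hc.2, hc.1⟩
    rw [Subgroup.mem_normalizer_iff]
    refine fun h => ⟨hin h, fun hh => ?_⟩
    have := hin _ hh
    simpa [mul_assoc, swapTwo_inv, det_swapTwo_ne, ← mul_assoc (swapTwo : GL (Fin 2) F) swapTwo] using this
  obtain ⟨S, hS⟩ := (IsPGroup.to_sup_of_normal_right' hZp hDp hnorm).exists_le_sylow
  refine ⟨S, C, hS (Subgroup.mem_sup_left (Subgroup.mem_zpowers _)), fun c hc => ?_, fun s hs => ?_, ?_⟩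
  · rw [diagTwo_eq]
    exact hS (Subgroup.mem_sup_right (Subgroup.mem_map_of_mem _ ⟨hc, one_mem _⟩))
  · rw [← C.is_maximal' (IsPGroup.to_sup_of_normal_right
      (S.2.map (Matrix.GeneralLinearGroup.det : GL (Fin 2) F →* Fˣ)) C.2) le_sup_right]
    exact Subgroup.mem_sup_left (Subgroup.mem_map_of_mem _ hs)
  · obtain ⟨R, hR⟩ := exists_sylow_comap _ Matrix.SpecialLinearGroup.toGL_injective
      (by rw [toGL_range_eq_ker_det]; infer_instance) S
    rw [← hR]
    exact sqComm_SL_two hF R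

omit [Fintype F] in
theorem pairHom_scalar (c : Fˣ) : pairHom (F := F) ⟨(diagPair (c, c), diagPair (c, c)), pair_mem⟩ = 1 := by
  refine act_injective (LinearEquiv.ext fun x => ?_)
  rw [act_pairHom, map_one]
  show _ = x
  have hp : ((diagPair (c, c) : GL (Fin 2) F) : Matrix (Fin 2) (Fin 2) F) = (c : F) • 1 := by
    ext i j; fin_cases i <;> fin_cases j <;> simp [diagPair]
  have hp' : (((diagPair (c, c))⁻¹ : GL (Fin 2) F) : Matrix (Fin 2) (Fin 2) F) =
      ((c⁻¹ : Fˣ) : F) • 1 := by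
    ext i j; fin_cases i <;> fin_cases j <;> simp [diagPair]
  refine z_ext ?_ ?_
  · rw [pairFun, zH_zMk, hp, hp']
    simp [smul_smul]
  · rw [pairFun, zN_zMk, hp, hp']
    simp [smul_smul]

omit [Fintype F] in
theorem exists_scalar_of_pairHom_eq_one {g : Pairs F} (hg : pairHom g = 1) :
    ∃ c : Fˣ, g.1 = (diagPair (c, c), diagPair (c, c)) := by
  have key : ∀ H N : Matrix (Fin 2) (Fin 2) F,
      (g.1.1 : Matrix (Fin 2) (Fin 2) F) * H = H * (g.1.1 : Matrix (Fin 2) (Fin 2) F) ∧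
      (g.1.2 : Matrix (Fin 2) (Fin 2) F) * N = N * (g.1.1 : Matrix (Fin 2) (Fin 2) F) := by
    intro H N
    have h : pairFun g.1.1 g.1.2 (zMk H N) = zMk H N := by
      rw [← act_pairHom, hg, map_one]; rfl
    have h1 := congrArg zH h
    have h2 := congrArg zN h
    rw [pairFun, zH_zMk, zH_zMk] at h1
    rw [pairFun, zN_zMk, zN_zMk] at h2
    constructor
    · conv_rhs => rw [← h1, Matrix.mul_assoc, g.1.1.inv_mul, Matrix.mul_one]
    · conv_rhs => rw [← h2, Matrix.mul_assoc, g.1.1.inv_mul, Matrix.mul_one]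
  have hca : g.1.2 = g.1.1 := Units.ext (by simpa using (key 0 1).2)
  have k1 := (key !![0, 1; 0, 0] 0).1
  have k2 := (key !![0, 0; 1, 0] 0).1
  have e1 := congrFun (congrFun k1 0) 1
  have e2 := congrFun (congrFun k1 0) 0
  have e3 := congrFun (congrFun k2 0) 0
  simp [Matrix.mul_apply, Fin.sum_univ_two] at e1 e2 e3
  have hne : (g.1.1 : Matrix (Fin 2) (Fin 2) F) 0 0 ≠ 0 := fun h => by
    have hd := (Matrix.GeneralLinearGroup.det g.1.1).ne_zero
    rw [Matrix.GeneralLinearGroup.val_det_apply, Matrix.det_fin_two, h, e3] at hd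
    simp at hd
  have ha : g.1.1 = diagPair (Units.mk0 _ hne, Units.mk0 _ hne) := by
    refine Units.ext (Matrix.ext fun i j => ?_)
    fin_cases i <;> fin_cases j <;> simp [diagPair, e1, ← e2, e3]
  exact ⟨Units.mk0 _ hne, Prod.ext ha (hca.trans ha)⟩

theorem val_range_pairHom (hF : Odd (Fintype.card F)) :
    padicValNat 2 (Nat.card (pairHom (F := F)).range) = padicValNat 2 (Nat.card (G2 F)) := by
  haveI : Fact (Nat.Prime 2) := ⟨Nat.prime_two⟩
  have hq : 1 < Fintype.card F := Fintype.one_lt_card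
  let sc : Fˣ →* Pairs F := MonoidHom.codRestrict
    ((diagPair.comp ((MonoidHom.id Fˣ).prod (MonoidHom.id Fˣ))).prod
      (diagPair.comp ((MonoidHom.id Fˣ).prod (MonoidHom.id Fˣ)))) _ fun c => pair_mem
  have hsc : Function.Injective sc := fun a b h => by
    have := congrArg (fun g : Pairs F => (g.1.1 : Matrix (Fin 2) (Fin 2) F) 0 0) h
    exact Units.ext (by simpa [sc, diagPair] using this)
  have hker : (pairHom (F := F)).ker = sc.range := by
    ext g
    constructor
    · intro hg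
      obtain ⟨c, hc⟩ := exists_scalar_of_pairHom_eq_one hg
      exact ⟨c, Subtype.ext hc.symm⟩
    · rintro ⟨c, rfl⟩
      exact pairHom_scalar c
  have hk : Nat.card (pairHom (F := F)).ker = Fintype.card F - 1 := by
    rw [hker, ← Nat.card_congr (MonoidHom.ofInjective hsc).toEquiv, card_units_field]
  have hsurj : Function.Surjective (detRatio F) := fun c =>
    ⟨(diagTwo c, 1), by show _ * _ = c; rw [det_diagTwo, map_one, inv_one, mul_one]⟩
  have hP := (detRatio F).ker.card_mul_index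
  rw [Subgroup.index_ker, MonoidHom.range_eq_top.2 hsurj, Subgroup.card_top, Nat.card_prod,
    card_units_field] at hP
  replace hP : Nat.card (Pairs F) * (Fintype.card F - 1) =
      Nat.card (GL (Fin 2) F) * Nat.card (GL (Fin 2) F) := hP
  have hR := (pairHom (F := F)).ker.card_mul_index
  rw [Subgroup.index_ker, hk] at hR
  replace hR : (Fintype.card F - 1) * Nat.card (pairHom (F := F)).range = Nat.card (Pairs F) := hR
  have e1 := congrArg (padicValNat 2) hP
  have e2 := congrArg (padicValNat 2) hR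
  have e3 := congrArg (padicValNat 2) (card_SL_mul (F := F) (ι := Fin 3))
  rw [padicValNat.mul Nat.card_pos.ne' (by omega), padicValNat.mul Nat.card_pos.ne' Nat.card_pos.ne',
    val_card_GL hF] at e1
  rw [padicValNat.mul (by omega) Nat.card_pos.ne'] at e2
  rw [padicValNat.mul (by omega) Nat.card_pos.ne', val_card_GL hF] at e3
  have h6 : padicValNat 2 (Fintype.card F ^ 6 + Fintype.card F ^ 3) =
      padicValNat 2 (Fintype.card F + 1) := by
    obtain ⟨r, hr⟩ := hF
    have e : Fintype.card F ^ 6 + Fintype.card F ^ 3 =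
        (Fintype.card F + 1) * (Fintype.card F ^ 3 * (4 * r ^ 2 + 2 * r + 1)) := by
      rw [hr]; ring
    rw [e, padicValNat.mul (by omega) (mul_ne_zero (pow_ne_zero _ (by omega)) (by omega)),
      padicValNat.eq_zero_of_not_dvd (n := Fintype.card F ^ 3 * _), add_zero]
    intro h
    rcases (Nat.prime_two.dvd_mul).1 h with h | h
    · have := Nat.prime_two.dvd_of_dvd_pow h; omega
    · omega
  rw [card_G2, padicValNat.mul (by positivity) Nat.card_pos.ne', h6]
  have := TwoRank.val_sq_sub_one hq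
  generalize Nat.card (Pairs F) = NP at e1 e2
  norm_num at e1 e3
  omega

theorem sqComm_sylow_G2 (hF : Odd (Fintype.card F)) (P : Sylow 2 (G2 F)) :
    SqComm (P : Subgroup (G2 F)) := by
  haveI : Fact (Nat.Prime 2) := ⟨Nat.prime_two⟩
  obtain ⟨S, C, hsw, hD, hdet, hQ⟩ := exists_sylow_monomial hF
  let TT : Sylow 2 (GL (Fin 2) F × GL (Fin 2) F) :=
    Sylow.ofCard ((S : Subgroup (GL (Fin 2) F)).prod S) (by
      rw [Nat.card_congr (Subgroup.prodEquiv _ _).toEquiv, Nat.card_prod, S.card_eq_multiplicity,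
        Nat.card_prod, Nat.factorization_mul Nat.card_pos.ne' Nat.card_pos.ne', Finsupp.add_apply,
        pow_add])
  obtain ⟨T, hT⟩ := exists_sylow_comap (Pairs F).subtype Subtype.val_injective
    (by rw [Subgroup.range_subtype]; infer_instance) TT
  have hmem : ∀ g : Pairs F, g.1.1 ∈ (S : Subgroup _) → g.1.2 ∈ (S : Subgroup _) →
      g ∈ (T : Subgroup (Pairs F)) := fun g h1 h2 => by rw [hT]; exact ⟨h1, h2⟩
  let R : Sylow 2 (pairHom (F := F)).range :=
    T.mapSurjective pairHom.rangeRestrict_surjective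
  refine sqComm_sylow (pairHom (F := F)).range.subtype Subtype.val_injective
    (val_range_pairHom hF).symm R ?_ P
  set K := (T : Subgroup (Pairs F)).map pairHom.rangeRestrict
  show SqComm K
  refine SqComm.of_closure ?_
  rintro _ ⟨g, hg, rfl⟩
  rw [hT] at hg
  obtain ⟨hg1, hg2⟩ := hg
  set c := Matrix.GeneralLinearGroup.det g.1.1 with hc
  have hc2 : Matrix.GeneralLinearGroup.det g.1.2 = c := Units.ext (det_eq g).symm
  have hdC := hD c (hdet _ hg1)
  have hq : ∀ s ∈ (S : Subgroup (GL (Fin 2) F)), Matrix.GeneralLinearGroup.det s = c →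
      ∃ y ∈ (S : Subgroup (GL (Fin 2) F)).comap
        (Matrix.SpecialLinearGroup.toGL : SpecialLinearGroup (Fin 2) F →* GL (Fin 2) F),
        Matrix.SpecialLinearGroup.toGL y = s * (diagTwo c)⁻¹ := by
    intro s hs hds
    obtain ⟨y, hy⟩ : s * (diagTwo c)⁻¹ ∈ (Matrix.SpecialLinearGroup.toGL :
        SpecialLinearGroup (Fin 2) F →* GL (Fin 2) F).range := by
      rw [toGL_range_eq_ker_det, MonoidHom.mem_ker, map_mul, map_inv, det_diagTwo, hds, mul_inv_cancel]
    exact ⟨y, by show _ ∈ (S : Subgroup (GL (Fin 2) F)); rw [hy]; exact mul_mem hs (inv_mem hdC), hy⟩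
  obtain ⟨y1, hy1, e1⟩ := hq _ hg1 rfl
  obtain ⟨y2, hy2, e2⟩ := hq _ hg2 hc2
  have htoGL : ∀ y : SpecialLinearGroup (Fin 2) F,
      Matrix.GeneralLinearGroup.det (Matrix.SpecialLinearGroup.toGL y) = 1 := fun y => Units.ext y.2
  let l1 : SpecialLinearGroup (Fin 2) F →* Pairs F := MonoidHom.codRestrict
    (Matrix.SpecialLinearGroup.toGL.prod 1) _ fun y => by
      show _ * _ = (1 : Fˣ)
      simp [htoGL]
  let l2 : SpecialLinearGroup (Fin 2) F →* Pairs F := MonoidHom.codRestrict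
    ((1 : SpecialLinearGroup (Fin 2) F →* GL (Fin 2) F).prod Matrix.SpecialLinearGroup.toGL) _
      fun y => by
        show _ * _ = (1 : Fˣ)
        simp [htoGL]
  let dd : Pairs F := ⟨(diagTwo c, diagTwo c), pair_mem⟩
  have hdec : g = l1 y1 * l2 y2 * dd := by
    refine Subtype.ext (Prod.ext ?_ ?_)
    · show g.1.1 = Matrix.SpecialLinearGroup.toGL y1 * 1 * diagTwo c
      rw [e1, mul_one, inv_mul_cancel_right]; rfl
    · show g.1.2 = 1 * Matrix.SpecialLinearGroup.toGL y2 * diagTwo c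
      rw [e2, one_mul, inv_mul_cancel_right]; rfl
  rw [hdec, map_mul, map_mul]
  refine Subgroup.mul_mem _ (Subgroup.mul_mem _ ?_ ?_) ?_
  · refine Subgroup.subset_closure (hQ.mem_sqGens (pairHom.rangeRestrict.comp l1) ?_ hy1)
    rintro _ ⟨y, hy, rfl⟩
    exact Subgroup.mem_map_of_mem _ (hmem _ hy (one_mem _))
  · refine Subgroup.subset_closure (hQ.mem_sqGens (pairHom.rangeRestrict.comp l2) ?_ hy2)
    rintro _ ⟨y, hy, rfl⟩
    exact Subgroup.mem_map_of_mem _ (hmem _ (one_mem _) hy)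
  · let ww : Pairs F := ⟨(swapTwo, swapTwo), pair_mem⟩
    have hdd : dd ∈ (T : Subgroup (Pairs F)) := hmem _ hdC hdC
    refine Subgroup.subset_closure ⟨Subgroup.mem_map_of_mem _ hdd, ?_⟩
    have e : dd ^ 2 = ⟨(diagPair (c, c), diagPair (c, c)), pair_mem⟩ * ⁅dd, ww⁆ :=
      Subtype.ext (Prod.ext (diagTwo_sq c) (diagTwo_sq c))
    have hz : pairHom.rangeRestrict (⟨(diagPair (c, c), diagPair (c, c)), pair_mem⟩ : Pairs F) = 1 :=
      Subtype.ext (pairHom_scalar c)
    rw [← map_pow, e, map_mul, hz, one_mul, map_commutatorElement]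
    exact Subgroup.commutator_mem_commutator (Subgroup.mem_map_of_mem _ hdd)
      (Subgroup.mem_map_of_mem _ (hmem ww hsw hsw))

end CfsgLib.Classical.SylowAb.Octonion
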