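import Cfsg.Agent.Lib.Classical.SylowAb.Symplectic
import Cfsg.Agent.Lib.Classical.SylowGL
import Mathlib.LinearAlgebra.Matrix.Permutation

/-!
Sylow 2-subgroups of special linear groups in odd characteristic.
-/

set_option autoImplicit false

namespace CfsgLib.Classical.SylowAb

open CfsgLib.Classical.SignRank CfsgLib.SylowPermGen
open Matrix

variable {F : Type*} [Field F]

/-- Block diagonal invertible matrices. -/
noncomputable def baseGL (m : ℕ) : (Fin m → GL (Fin 2) F) →* GL (Fin 2 × Fin m) F :=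
  (Units.map (Matrix.blockDiagonalRingHom (Fin 2) (Fin m) F).toMonoidHom).comp
    MulEquiv.piUnits.symm.toMonoidHom

theorem coe_baseGL {m : ℕ} (f : Fin m → GL (Fin 2) F) :
    ((baseGL m f : GL (Fin 2 × Fin m) F) : Matrix (Fin 2 × Fin m) (Fin 2 × Fin m) F) =
      Matrix.blockDiagonal fun i => (f i : Matrix (Fin 2) (Fin 2) F) := rfl

/-- The permutation of the blocks. -/
def blockPerm (m : ℕ) : Equiv.Perm (Fin m) →* Equiv.Perm (Fin 2 × Fin m) where
  toFun σ := Equiv.prodCongr (Equiv.refl _) σ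
  map_one' := rfl
  map_mul' _ _ := rfl

theorem blockPerm_apply {m : ℕ} (σ : Equiv.Perm (Fin m)) (x : Fin 2 × Fin m) :
    blockPerm m σ x = (x.1, σ x.2) := rfl

theorem blockPerm_symm_apply {m : ℕ} (σ : Equiv.Perm (Fin m)) (x : Fin 2 × Fin m) :
    (blockPerm m σ).symm x = (x.1, σ.symm x.2) := rfl

/-- Permutation matrices of the blocks. -/
noncomputable def permGL (m : ℕ) : Equiv.Perm (Fin m) →* GL (Fin 2 × Fin m) F :=
  (Matrix.permMatrixHom.comp (blockPerm m)).toHomUnits

theorem coe_permGL {m : ℕ} (σ : Equiv.Perm (Fin m)) :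
    ((permGL m σ : GL (Fin 2 × Fin m) F) : Matrix (Fin 2 × Fin m) (Fin 2 × Fin m) F) =
      (blockPerm m σ)⁻¹.permMatrix F := rfl

/-- `GL₂ ≀ S_m` in `GL_{2m}`. -/
noncomputable def blockGL (m : ℕ) : Wr (GL (Fin 2) F) m →* GL (Fin 2 × Fin m) F :=
  SemidirectProduct.lift (baseGL m) (permGL m) fun σ => by
    refine MonoidHom.ext fun f => ?_
    show baseGL m (fun i => f (σ.symm i)) = permGL m σ * baseGL m f * (permGL m σ)⁻¹
    rw [eq_mul_inv_iff_mul_eq]
    refine Units.ext ?_
    rw [Units.val_mul, Units.val_mul, coe_baseGL, coe_baseGL, coe_permGL, Equiv.Perm.permMatrix,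
      PEquiv.mul_toMatrix_toPEquiv, PEquiv.toMatrix_toPEquiv_mul]
    ext ⟨a, i⟩ ⟨b, j⟩
    simp only [Matrix.submatrix_apply, id, blockPerm_apply, blockPerm_symm_apply,
      Equiv.Perm.inv_def, Equiv.symm_symm, Matrix.blockDiagonal_apply,
      Equiv.symm_apply_eq]

theorem coe_blockGL {m : ℕ} (x : Wr (GL (Fin 2) F) m) :
    ((blockGL m x : GL (Fin 2 × Fin m) F) : Matrix (Fin 2 × Fin m) (Fin 2 × Fin m) F) =
      (Matrix.blockDiagonal fun i => (x.left i : Matrix (Fin 2) (Fin 2) F)) *
        (blockPerm m x.right)⁻¹.permMatrix F := rfl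

theorem det_blockGL {m : ℕ} (x : Wr (GL (Fin 2) F) m) :
    Matrix.GeneralLinearGroup.det (blockGL m x) =
      ∏ i, Matrix.GeneralLinearGroup.det (x.left i) := by
  refine Units.ext ?_
  rw [Matrix.GeneralLinearGroup.val_det_apply, coe_blockGL, Matrix.det_mul,
    Matrix.det_blockDiagonal, Matrix.det_permutation, Units.coe_prod]
  have hs : Equiv.Perm.sign (blockPerm m x.right)⁻¹ = 1 := by
    rw [map_inv, show blockPerm m x.right = Equiv.prodCongrRight (fun _ : Fin 2 => x.right) from
      Equiv.ext fun _ => rfl, Equiv.Perm.sign_prodCongrRight, Fin.prod_univ_two, Int.units_mul_self,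
      inv_one]
  rw [hs, Units.val_one, Int.cast_one, mul_one]
  exact Finset.prod_congr rfl fun i _ => (Matrix.GeneralLinearGroup.val_det_apply _).symm

theorem blockGL_injective (m : ℕ) : Function.Injective (blockGL (F := F) m) := by
  rw [injective_iff_map_eq_one]
  intro x hx
  have h := congrArg (fun g : GL (Fin 2 × Fin m) F =>
    (g : Matrix (Fin 2 × Fin m) (Fin 2 × Fin m) F)) hx
  simp only [coe_blockGL, Units.val_one, Equiv.Perm.permMatrix, PEquiv.mul_toMatrix_toPEquiv] at h
  have key : ∀ (a b : Fin 2) (j : Fin m), (x.left (x.right j) : Matrix (Fin 2) (Fin 2) F) a b =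
      (1 : Matrix (Fin 2 × Fin m) (Fin 2 × Fin m) F) (a, x.right j) (b, j) := fun a b j => by
    rw [← h]
    simp [blockPerm_apply, Matrix.blockDiagonal_apply, Equiv.Perm.inv_def]
  have hσ : x.right = 1 := by
    refine Equiv.ext fun j => ?_
    by_contra hj
    have hj' : x.right j ≠ j := hj
    have hdet := (Matrix.GeneralLinearGroup.det (x.left (x.right j))).ne_zero
    rw [Matrix.GeneralLinearGroup.val_det_apply, Matrix.det_fin_two, key, key, key, key] at hdet
    simp [hj'] at hdet
  refine SemidirectProduct.ext (funext fun j => ?_) hσ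
  have hj : x.right j = j := by rw [hσ]; rfl
  refine Units.ext (Matrix.ext fun a b => ?_)
  have := key a b j
  rw [hj] at this
  rw [this, SemidirectProduct.one_left, Pi.one_apply, Units.val_one, Matrix.one_apply,
    Matrix.one_apply]
  simp

/-- `diag(c, 1)`. -/
def diagTwo : Fˣ →* GL (Fin 2) F where
  toFun c := ⟨!![(c : F), 0; 0, 1], !![((c⁻¹ : Fˣ) : F), 0; 0, 1],
    by simp [Matrix.mul_fin_two, Matrix.one_fin_two], by simp [Matrix.mul_fin_two, Matrix.one_fin_two]⟩
  map_one' := Units.ext (by simp [Matrix.one_fin_two])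
  map_mul' a b := Units.ext (by simp [Matrix.mul_fin_two])

theorem det_diagTwo (c : Fˣ) : Matrix.GeneralLinearGroup.det (diagTwo c) = c :=
  Units.ext (by simp [diagTwo, Matrix.det_fin_two])

variable [Fintype F]

/-- The data of a Sylow subgroup of `GL₂` split over the determinant. -/
theorem exists_sylow_GL_two (hF : Odd (Fintype.card F)) :
    ∃ (S : Sylow 2 (GL (Fin 2) F)) (C : Sylow 2 Fˣ),
      (∀ c ∈ (C : Subgroup Fˣ), diagTwo c ∈ (S : Subgroup (GL (Fin 2) F))) ∧
      (∀ s ∈ (S : Subgroup (GL (Fin 2) F)), Matrix.GeneralLinearGroup.det s ∈ (C : Subgroup Fˣ)) ∧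
      SqComm ((S : Subgroup (GL (Fin 2) F)).comap
        (Matrix.SpecialLinearGroup.toGL : SpecialLinearGroup (Fin 2) F →* GL (Fin 2) F)) := by
  haveI : Fact (Nat.Prime 2) := ⟨Nat.prime_two⟩
  obtain ⟨C⟩ : Nonempty (Sylow 2 Fˣ) := inferInstance
  obtain ⟨S, hS⟩ := (C.2.map (diagTwo (F := F))).exists_le_sylow
  refine ⟨S, C, fun c hc => hS (Subgroup.mem_map_of_mem _ hc), fun s hs => ?_, ?_⟩
  · rw [← C.is_maximal' (IsPGroup.to_sup_of_normal_right
      (S.2.map (Matrix.GeneralLinearGroup.det : GL (Fin 2) F →* Fˣ)) C.2) le_sup_right]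
    exact Subgroup.mem_sup_left (Subgroup.mem_map_of_mem _ hs)
  · set j : SpecialLinearGroup (Fin 2) F →* GL (Fin 2) F := Matrix.SpecialLinearGroup.toGL
    have hj : Function.Injective j := Matrix.SpecialLinearGroup.toGL_injective
    have hN : j.range.Normal := by
      rw [show j.range = _ from toGL_range_eq_ker_det]
      infer_instance
    obtain ⟨R, hR⟩ := (S.2.comap_of_injective j hj).exists_le_sylow
    obtain ⟨P, hP⟩ := (R.2.map j).exists_le_sylow
    obtain ⟨g, rfl⟩ := MulAction.exists_smul_eq (GL (Fin 2) F) S P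
    have hle : (R : Subgroup _).map j ≤
        ((S : Subgroup (GL (Fin 2) F)) ⊓ j.range).map (MulAut.conj g).toMonoidHom := by
      intro x hx
      have hx' : x ∈ (S : Subgroup (GL (Fin 2) F)).map (MulAut.conj g).toMonoidHom := hP hx
      obtain ⟨y, hy, rfl⟩ := hx'
      refine Subgroup.mem_map_of_mem _ ⟨hy, ?_⟩
      have := hN.conj_mem _ (Subgroup.map_le_range j _ hx) g⁻¹
      simpa [MulAut.conj_apply, mul_assoc] using this
    have hc : Nat.card (R : Subgroup (SpecialLinearGroup (Fin 2) F)) ≤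
        Nat.card ((S : Subgroup (GL (Fin 2) F)).comap j) := by
      rw [← Subgroup.card_map_of_injective hj (K := (R : Subgroup _)),
        ← Subgroup.card_map_of_injective hj (K := (S : Subgroup _).comap j), Subgroup.map_comap_eq,
        inf_comm]
      refine (Subgroup.card_le_of_le hle).trans ?_
      rw [Subgroup.card_map_of_injective (MulAut.conj g).injective]
    rw [Subgroup.eq_of_le_of_card_ge hR hc]
    exact sqComm_SL_two hF R

theorem val_card_GL (hF : Odd (Fintype.card F)) (n : ℕ) :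
    padicValNat 2 (Nat.card (GL (Fin n) F)) =
      (n / 2) * (padicValNat 2 (Fintype.card F - 1) + padicValNat 2 (Fintype.card F ^ 2 - 1))
        + padicValNat 2 (n / 2).factorial + n % 2 * padicValNat 2 (Fintype.card F - 1) := by
  haveI : Fact (Nat.Prime 2) := ⟨Nat.prime_two⟩
  have hq : 1 < Fintype.card F := Fintype.one_lt_card
  rw [card_GL_eq, padicValNat.mul (pow_ne_zero _ (by omega))
    (Finset.prod_ne_zero_iff.2 fun i _ => Nat.sub_ne_zero_of_lt (Nat.one_lt_pow (by omega) hq)),
    TwoRank.val_prod_half hq hF, padicValNat.eq_zero_of_not_dvd (fun h =>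
      (Nat.not_even_iff_odd.2 hF) (even_iff_two_dvd.2 (Nat.prime_two.dvd_of_dvd_pow h))), zero_add]

theorem val_card_wr (hF : Odd (Fintype.card F)) (m : ℕ) :
    padicValNat 2 (Nat.card (Wr (GL (Fin 2) F) m)) = padicValNat 2 (Nat.card (GL (Fin (2 * m)) F)) := by
  haveI : Fact (Nat.Prime 2) := ⟨Nat.prime_two⟩
  rw [card_wr, padicValNat.mul (pow_ne_zero _ Nat.card_pos.ne') (Nat.factorial_ne_zero m),
    padicValNat.pow _ _, val_card_GL hF, val_card_GL hF, show 2 * m / 2 = m by omega,
    show 2 * m % 2 = 0 by omega]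
  simp [mul_add]

/-- Renumber the rows. -/
noncomputable def reindexGL (m : ℕ) : GL (Fin 2 × Fin m) F ≃* GL (Fin (2 * m)) F :=
  Units.mapEquiv (Matrix.reindexAlgEquiv F F finProdFinEquiv).toMulEquiv

theorem det_reindexGL {m : ℕ} (g : GL (Fin 2 × Fin m) F) :
    Matrix.GeneralLinearGroup.det (reindexGL m g) = Matrix.GeneralLinearGroup.det g :=
  Units.ext (Matrix.det_reindexAlgEquiv F F finProdFinEquiv _)

/-- `GL₂ ≀ S_m → GL_{2m}`. -/
noncomputable def wrGL (m : ℕ) : Wr (GL (Fin 2) F) m →* GL (Fin (2 * m)) F :=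
  (reindexGL m).toMonoidHom.comp (blockGL m)

theorem sqComm_sylow_SL_even (hF : Odd (Fintype.card F)) (m : ℕ) (hm : 1 ≤ m)
    (hq : 4 ∣ Fintype.card F + 1 ∨ ∃ j : ℕ, m = 2 ^ j)
    (P : Sylow 2 (SpecialLinearGroup (Fin (2 * m)) F)) :
    SqComm (P : Subgroup (SpecialLinearGroup (Fin (2 * m)) F)) := by
  haveI : Fact (Nat.Prime 2) := ⟨Nat.prime_two⟩
  haveI : NeZero m := ⟨by omega⟩
  obtain ⟨S, C, hD, hdet, hQ⟩ := exists_sylow_GL_two hF
  obtain ⟨PS, hswap⟩ : ∃ PS : Sylow 2 (Equiv.Perm (Fin m)), (∀ c ∈ (C : Subgroup Fˣ), c ^ 2 = 1) ∨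
      ∀ a b, ∃ σ ∈ (PS : Subgroup (Equiv.Perm (Fin m))), σ a = b ∧ σ b = a ∧ σ * σ = 1 := by
    rcases hq with h4 | ⟨j, rfl⟩
    · obtain ⟨PS⟩ : Nonempty (Sylow 2 (Equiv.Perm (Fin m))) := inferInstance
      refine ⟨PS, Or.inl fun c hc => ?_⟩
      have hC : Nat.card (C : Subgroup Fˣ) = 2 := by
        rw [C.card_eq_multiplicity, Nat.card_units, Nat.card_eq_fintype_card,
          Nat.factorization_def _ Nat.prime_two, TwoRank.val_sub_one_of_mod_three (by omega), pow_one]
      have h := pow_card_eq_one' (x := (⟨c, hc⟩ : (C : Subgroup Fˣ)))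
      rw [hC] at h
      exact congrArg Subtype.val h
    · obtain ⟨PS, h⟩ := exists_sylow_swapping j
      exact ⟨PS, Or.inr h⟩
  obtain ⟨T, hT⟩ := exists_sylow_wr S PS
  have hj : Function.Injective
      (Matrix.SpecialLinearGroup.toGL : SpecialLinearGroup (Fin (2 * m)) F →* GL (Fin (2 * m)) F) :=
    Matrix.SpecialLinearGroup.toGL_injective
  refine sqComm_sylow_normal (wrGL m) ((reindexGL m).injective.comp (blockGL_injective m))
    (val_card_wr hF m).symm T _ hj (by rw [toGL_range_eq_ker_det]; infer_instance) ?_ P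
  rw [hT, toGL_range_eq_ker_det]
  set L := (Matrix.GeneralLinearGroup.det : GL (Fin (2 * m)) F →* Fˣ).ker.comap (wrGL m)
  have hL : ∀ x, x ∈ L ↔ ∏ i, Matrix.GeneralLinearGroup.det (x.left i) = 1 := fun x => by
    show Matrix.GeneralLinearGroup.det (reindexGL m (blockGL m x)) = 1 ↔ _
    rw [det_reindexGL, det_blockGL]
  refine wrSub_inf_le_closure (genP_sylow_perm 2 m PS) L
    (fun σ _ => (hL _).2 (Finset.prod_eq_one fun i _ => map_one _)) fun f hf hfL => ?_
  have hprod : ∏ i, Matrix.GeneralLinearGroup.det (f i) = 1 := by simpa using (hL _).1 hfL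
  set c : Fin m → Fˣ := fun i => Matrix.GeneralLinearGroup.det (f i) with hc
  have hcC : ∀ i, c i ∈ (C : Subgroup Fˣ) := fun i => hdet _ (hf i)
  set K := Subgroup.closure (sqGens (wrSub (S : Subgroup (GL (Fin 2) F)) PS ⊓ L)) with hK
  let δ : (Fin m → Fˣ) →* Wr (GL (Fin 2) F) m :=
    SemidirectProduct.inl.comp (Pi.monoidHom fun i => diagTwo.comp (Pi.evalMonoidHom _ i))
  have hδ : ∀ e : Fin m → Fˣ, δ e = SemidirectProduct.inl fun i => diagTwo (e i) := fun e => rfl
  have hfac : (SemidirectProduct.inl f : Wr (GL (Fin 2) F) m) =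
      SemidirectProduct.inl (fun i => f i * (diagTwo (c i))⁻¹) * δ c := by
    rw [hδ, ← map_mul]
    congr 1
    funext i
    simp
  rw [hfac]
  refine K.mul_mem ?_ ?_
  · have hall : (fun i => f i * (diagTwo (c i))⁻¹) ∈ K.comap
        (SemidirectProduct.inl : _ →* Wr (GL (Fin 2) F) m) := by
      refine Subgroup.pi_mem_of_mulSingle_mem _ fun i => ?_
      have hq1 : f i * (diagTwo (c i))⁻¹ ∈ (Matrix.SpecialLinearGroup.toGL :
          SpecialLinearGroup (Fin 2) F →* GL (Fin 2) F).range := by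
        rw [toGL_range_eq_ker_det, MonoidHom.mem_ker, map_mul, map_inv, det_diagTwo, mul_inv_cancel]
      obtain ⟨y, hy⟩ := hq1
      have hyS : y ∈ (S : Subgroup (GL (Fin 2) F)).comap
          (Matrix.SpecialLinearGroup.toGL : SpecialLinearGroup (Fin 2) F →* GL (Fin 2) F) := by
        show _ ∈ (S : Subgroup (GL (Fin 2) F))
        rw [hy]
        exact Subgroup.mul_mem _ (hf i) (Subgroup.inv_mem _ (hD _ (hcC i)))
      rw [← hy]
      refine Subgroup.subset_closure (hQ.mem_sqGens
        (((SemidirectProduct.inl : _ →* Wr (GL (Fin 2) F) m).comp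
          (MonoidHom.mulSingle (fun _ => GL (Fin 2) F) i)).comp Matrix.SpecialLinearGroup.toGL) ?_ hyS)
      rintro _ ⟨z, hz, rfl⟩
      refine ⟨inl_mem fun l => ?_, (hL _).2 (Finset.prod_eq_one fun l _ => ?_)⟩
      · by_cases hl : l = i
        · subst hl
          simp only [MonoidHom.coe_comp, Function.comp_apply, MonoidHom.mulSingle_apply,
            Pi.mulSingle_eq_same]
          exact hz
        · simp [hl]
      · by_cases hl : l = i
        · subst hl
          simp only [MonoidHom.coe_comp, Function.comp_apply, MonoidHom.mulSingle_apply,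
            SemidirectProduct.left_inl, Pi.mulSingle_eq_same]
          exact Units.ext (by simpa using z.2)
        · simp [hl]
    exact hall
  · obtain ⟨i₀⟩ : Nonempty (Fin m) := inferInstance
    have hc' : c = ∏ i, Pi.mulSingle i (c i) * Pi.mulSingle i₀ (c i)⁻¹ := by
      rw [Finset.prod_mul_distrib, Finset.univ_prod_mulSingle]
      have : (∏ i, Pi.mulSingle (M := fun _ => Fˣ) i₀ (c i)⁻¹) =
          Pi.mulSingle i₀ (∏ i, (c i)⁻¹) :=
        (map_prod (MonoidHom.mulSingle (fun _ => Fˣ) i₀) _ _).symm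
      rw [this, Finset.prod_inv_distrib, hprod, inv_one, Pi.mulSingle_one, mul_one]
    show c ∈ K.comap δ
    rw [hc']
    refine Subgroup.prod_mem _ fun i _ => ?_
    by_cases hi : i = i₀
    · subst hi
      rw [← Pi.mulSingle_mul, mul_inv_cancel, Pi.mulSingle_one]
      exact one_mem _
    set e : Fin m → Fˣ := Pi.mulSingle i (c i) * Pi.mulSingle i₀ (c i)⁻¹ with he
    have hei : e i = c i := by simp [he, hi]
    have hei0 : e i₀ = (c i)⁻¹ := by simp [he, Ne.symm hi]
    have heo : ∀ l, l ≠ i → l ≠ i₀ → e l = 1 := fun l h1 h2 => by simp [he, h1, h2]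
    have heC : ∀ l, e l ∈ (C : Subgroup Fˣ) := fun l => by
      by_cases h1 : l = i
      · rw [h1, hei]; exact hcC i
      by_cases h2 : l = i₀
      · rw [h2, hei0]; exact Subgroup.inv_mem _ (hcC i)
      rw [heo l h1 h2]; exact one_mem _
    have hmem : δ e ∈ wrSub (S : Subgroup (GL (Fin 2) F)) PS ⊓ L := by
      refine ⟨inl_mem fun l => hD _ (heC l), (hL _).2 ?_⟩
      simp only [hδ, SemidirectProduct.left_inl, det_diagTwo]
      rw [Finset.prod_eq_mul_of_mem i i₀ (Finset.mem_univ _) (Finset.mem_univ _) hi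
        (fun l _ hl => heo l hl.1 hl.2), hei, hei0, mul_inv_cancel]
    refine Subgroup.subset_closure ?_
    rcases hswap with h2 | hsw
    · refine mem_sqGens_of_sq hmem ?_
      rw [← map_pow, show e ^ 2 = 1 from funext fun l => h2 _ (heC l), map_one]
    · obtain ⟨σ, hσ, h1, h2, h3⟩ := hsw i i₀
      refine mem_sqGens_of_inverted (s := SemidirectProduct.inr σ) hmem
        ⟨inr_mem hσ, (hL _).2 (Finset.prod_eq_one fun l _ => map_one _)⟩ ?_
      rw [← map_inv δ, hδ, hδ, ← map_inv (SemidirectProduct.inr : _ →* Wr (GL (Fin 2) F) m),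
        ← SemidirectProduct.inl_aut]
      congr 1
      funext l
      show diagTwo (e (σ.symm l)) = diagTwo ((e l)⁻¹)
      congr 1
      have hσl : σ.symm l = σ l := by
        rw [← Equiv.Perm.inv_def, inv_eq_of_mul_eq_one_right h3]
      rw [hσl]
      by_cases g1 : l = i
      · rw [g1, h1, hei, hei0]
      by_cases g2 : l = i₀
      · rw [g2, h2, hei, hei0, inv_inv]
      rw [heo l g1 g2, inv_one, heo]
      · intro h; exact g2 (σ.injective (h.trans h2.symm))
      · intro h; exact g1 (σ.injective (h.trans h1.symm))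

/-- `GL_n` in `SL_{n+1}`. -/
noncomputable def glToSL (n : ℕ) : GL (Fin n) F →* SpecialLinearGroup (Fin (n + 1)) F where
  toFun g := ⟨Matrix.reindex finSumFinEquiv finSumFinEquiv (Matrix.fromBlocks
      (g : Matrix (Fin n) (Fin n) F) 0 0
      (Matrix.of fun _ _ : Fin 1 => (((Matrix.GeneralLinearGroup.det g)⁻¹ : Fˣ) : F))), by
    rw [Matrix.det_reindex_self, Matrix.det_fromBlocks_zero₁₂, Matrix.det_unique (A := Matrix.of _),
      Matrix.of_apply, ← Matrix.GeneralLinearGroup.val_det_apply, ← Units.val_mul, mul_inv_cancel,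
      Units.val_one]⟩
  map_one' := by
    refine Subtype.ext ?_
    show Matrix.reindex _ _ _ = (1 : Matrix (Fin (n + 1)) (Fin (n + 1)) F)
    simp only [Units.val_one, map_one, inv_one]
    rw [show (Matrix.of fun _ _ : Fin 1 => (1 : F)) = 1 from Matrix.ext fun i j => by
      rw [Subsingleton.elim i j, Matrix.of_apply, Matrix.one_apply_eq], Matrix.fromBlocks_one, Matrix.reindex_apply,
      Matrix.submatrix_one_equiv]
  map_mul' g h := by
    refine Subtype.ext ?_
    show Matrix.reindex _ _ _ = Matrix.reindex _ _ _ * Matrix.reindex _ _ _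
    simp only [Matrix.reindex_apply, Matrix.submatrix_mul_equiv]
    congr 1
    rw [Matrix.fromBlocks_multiply, map_mul, mul_inv, Units.val_mul, Units.val_mul]
    congr 1 <;> ext i j <;> simp [Matrix.mul_apply]

theorem glToSL_injective (n : ℕ) : Function.Injective (glToSL (F := F) n) := by
  intro g h e
  have := (Matrix.reindex finSumFinEquiv finSumFinEquiv).injective (congrArg Subtype.val e)
  exact Units.ext (Matrix.fromBlocks_inj.1 this).1

theorem sqComm_sylow_SL_odd (hF : Odd (Fintype.card F)) (h4 : 4 ∣ Fintype.card F + 1) (m : ℕ)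
    (P : Sylow 2 (SpecialLinearGroup (Fin (2 * m + 1)) F)) :
    SqComm (P : Subgroup (SpecialLinearGroup (Fin (2 * m + 1)) F)) := by
  haveI : Fact (Nat.Prime 2) := ⟨Nat.prime_two⟩
  obtain ⟨S, C, hD, hdet, hQ⟩ := exists_sylow_GL_two hF
  have hC : Nat.card (C : Subgroup Fˣ) = 2 := by
    rw [C.card_eq_multiplicity, Nat.card_units, Nat.card_eq_fintype_card,
      Nat.factorization_def _ Nat.prime_two, TwoRank.val_sub_one_of_mod_three (by omega), pow_one]
  have hS : SqComm (S : Subgroup (GL (Fin 2) F)) := by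
    refine SqComm.of_closure fun s hs => ?_
    set d := diagTwo (Matrix.GeneralLinearGroup.det s)
    have hd : d ∈ (S : Subgroup (GL (Fin 2) F)) := hD _ (hdet s hs)
    rw [show s = s * d⁻¹ * d by group]
    refine Subgroup.mul_mem _ (Subgroup.subset_closure ?_)
      (Subgroup.subset_closure (mem_sqGens_of_sq hd ?_))
    · obtain ⟨y, hy⟩ : s * d⁻¹ ∈ (Matrix.SpecialLinearGroup.toGL :
          SpecialLinearGroup (Fin 2) F →* GL (Fin 2) F).range := by
        rw [toGL_range_eq_ker_det, MonoidHom.mem_ker, map_mul, map_inv, det_diagTwo, mul_inv_cancel]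
      rw [← hy]
      refine hQ.mem_sqGens _ (Subgroup.map_comap_le _ _) ?_
      show _ ∈ (S : Subgroup (GL (Fin 2) F))
      rw [hy]
      exact Subgroup.mul_mem _ hs (Subgroup.inv_mem _ hd)
    · have h := pow_card_eq_one' (x := (⟨_, hdet s hs⟩ : (C : Subgroup Fˣ)))
      rw [hC] at h
      rw [← map_pow, show Matrix.GeneralLinearGroup.det s ^ 2 = 1 from congrArg Subtype.val h,
        map_one]
  obtain ⟨T, hT⟩ := exists_sqComm_sylow_wr (m := m) S hS
  refine sqComm_sylow ((glToSL (2 * m)).comp (wrGL m))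
    ((glToSL_injective _).comp ((reindexGL m).injective.comp (blockGL_injective m))) ?_ T hT P
  have hq : 1 < Fintype.card F := Fintype.one_lt_card
  have h := congrArg (padicValNat 2) (card_SL_mul (F := F) (ι := Fin (2 * m + 1)))
  rw [padicValNat.mul (by omega) Nat.card_pos.ne', val_card_GL hF,
    show (2 * m + 1) / 2 = m by omega, show (2 * m + 1) % 2 = 1 by omega] at h
  rw [val_card_wr hF, val_card_GL hF, show 2 * m / 2 = m by omega, show 2 * m % 2 = 0 by omega]
  omega

end CfsgLib.Classical.SylowAb
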