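import Cfsg.Agent.Lib.Classical.ClassicalTwoRank
import Cfsg.Prelude.Def_G2

/-!
Zorn's algebra as a Cayley–Dickson double of `M₂(F)`; the automorphisms coming from pairs of
invertible `2 × 2` matrices of equal determinant and from `SL₃`.
-/

set_option autoImplicit false

namespace CfsgLib.Classical.SylowAb.Octonion

open Matrix
open Cfsg.Lie (zornMul zA zB dot3 cross3 G2)

variable {F : Type*} [Field F]

/-- The quaternion part. -/
def zH (x : Fin 8 → F) : Matrix (Fin 2) (Fin 2) F := !![x 0, x 1; x 4, x 7]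

/-- The orthogonal part. -/
def zN (x : Fin 8 → F) : Matrix (Fin 2) (Fin 2) F := !![x 2, x 6; x 3, -x 5]

/-- Reassemble the coordinates. -/
def zMk (H N : Matrix (Fin 2) (Fin 2) F) : Fin 8 → F :=
  ![H 0 0, H 0 1, N 0 0, N 1 0, H 1 0, -N 1 1, N 0 1, H 1 1]

theorem zMk_zH_zN (x : Fin 8 → F) : zMk (zH x) (zN x) = x := by
  funext i; fin_cases i <;> simp [zMk, zH, zN]

theorem zH_zMk (H N : Matrix (Fin 2) (Fin 2) F) : zH (zMk H N) = H := by
  ext i j; fin_cases i <;> fin_cases j <;> simp [zMk, zH]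

theorem zN_zMk (H N : Matrix (Fin 2) (Fin 2) F) : zN (zMk H N) = N := by
  ext i j; fin_cases i <;> fin_cases j <;> simp [zMk, zN]

theorem z_ext {x y : Fin 8 → F} (h1 : zH x = zH y) (h2 : zN x = zN y) : x = y := by
  rw [← zMk_zH_zN x, ← zMk_zH_zN y, h1, h2]

theorem zH_add (x y : Fin 8 → F) : zH (x + y) = zH x + zH y := by
  ext i j; fin_cases i <;> fin_cases j <;> simp [zH]

theorem zN_add (x y : Fin 8 → F) : zN (x + y) = zN x + zN y := by
  ext i j; fin_cases i <;> fin_cases j <;> simp [zN, add_comm]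

theorem zH_smul (r : F) (x : Fin 8 → F) : zH (r • x) = r • zH x := by
  ext i j; fin_cases i <;> fin_cases j <;> simp [zH]

theorem zN_smul (r : F) (x : Fin 8 → F) : zN (r • x) = r • zN x := by
  ext i j; fin_cases i <;> fin_cases j <;> simp [zN]

theorem zH_mul (x y : Fin 8 → F) :
    zH (zornMul x y) = zH x * zH y - adjugate (zN y) * zN x := by
  ext i j
  fin_cases i <;> fin_cases j <;>
    simp [zornMul, zH, zN, zA, zB, dot3, cross3, Matrix.mul_apply, Fin.sum_univ_two,
      Matrix.adjugate_fin_two] <;> ring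

theorem zN_mul (x y : Fin 8 → F) :
    zN (zornMul x y) = zN y * zH x + zN x * adjugate (zH y) := by
  ext i j
  fin_cases i <;> fin_cases j <;>
    simp [zornMul, zH, zN, zA, zB, dot3, cross3, Matrix.mul_apply, Fin.sum_univ_two,
      Matrix.adjugate_fin_two] <;> ring

theorem natAct_mulVec {n : ℕ} (g : GL (Fin n) F) (v : Fin n → F) :
    TwoRank.natAct n g v = (g : Matrix (Fin n) (Fin n) F).mulVec v := by
  simp [TwoRank.natAct, TwoRank.autGL]

/-- The matrix group of a multiplicative linear map. -/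
noncomputable def toG2 (f : (Fin 8 → F) ≃ₗ[F] (Fin 8 → F))
    (hf : ∀ x y, f (zornMul x y) = zornMul (f x) (f y)) : G2 F :=
  ⟨(TwoRank.natAct 8).symm f, fun x y => by
    show (((TwoRank.natAct 8).symm f : GL (Fin 8) F) : Matrix (Fin 8) (Fin 8) F).mulVec _ =
      zornMul ((((TwoRank.natAct 8).symm f : GL (Fin 8) F) : Matrix (Fin 8) (Fin 8) F).mulVec x)
        ((((TwoRank.natAct 8).symm f : GL (Fin 8) F) : Matrix (Fin 8) (Fin 8) F).mulVec y)
    simp only [← natAct_mulVec, MulEquiv.apply_symm_apply]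
    exact hf x y⟩

/-- The linear action of an automorphism. -/
noncomputable def act : G2 F →* ((Fin 8 → F) ≃ₗ[F] (Fin 8 → F)) :=
  (TwoRank.natAct 8).toMonoidHom.comp (G2 F).subtype

theorem act_mul_apply (g : G2 F) (x y : Fin 8 → F) :
    act g (zornMul x y) = zornMul (act g x) (act g y) := by
  show TwoRank.natAct 8 (g : GL (Fin 8) F) _ =
    zornMul (TwoRank.natAct 8 (g : GL (Fin 8) F) x) (TwoRank.natAct 8 (g : GL (Fin 8) F) y)
  simp only [natAct_mulVec]
  exact g.2 x y

theorem act_injective : Function.Injective (act : G2 F → _) :=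
  (TwoRank.natAct 8).injective.comp Subtype.val_injective

theorem act_toG2 (f : (Fin 8 → F) ≃ₗ[F] (Fin 8 → F))
    (hf : ∀ x y, f (zornMul x y) = zornMul (f x) (f y)) : act (toG2 f hf) = f :=
  (TwoRank.natAct 8).apply_symm_apply f

/-- The determinant ratio. -/
def detRatio (F : Type*) [Field F] : GL (Fin 2) F × GL (Fin 2) F →* Fˣ where
  toFun g := Matrix.GeneralLinearGroup.det g.1 * (Matrix.GeneralLinearGroup.det g.2)⁻¹
  map_one' := by simp
  map_mul' g h := by
    simp only [Prod.fst_mul, Prod.snd_mul, map_mul, mul_inv]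
    exact mul_mul_mul_comm _ _ _ _

/-- Pairs of equal determinant. -/
abbrev Pairs (F : Type*) [Field F] : Subgroup (GL (Fin 2) F × GL (Fin 2) F) := (detRatio F).ker

theorem det_eq (g : Pairs F) :
    ((g.1.1 : GL (Fin 2) F) : Matrix (Fin 2) (Fin 2) F).det =
      ((g.1.2 : GL (Fin 2) F) : Matrix (Fin 2) (Fin 2) F).det := by
  have h : Matrix.GeneralLinearGroup.det g.1.1 * (Matrix.GeneralLinearGroup.det g.1.2)⁻¹ = 1 := g.2
  exact congrArg Units.val (mul_inv_eq_one.1 h)

/-- The map `(h, n) ↦ (a h a⁻¹, c n a⁻¹)`. -/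
def pairFun (a c : GL (Fin 2) F) (x : Fin 8 → F) : Fin 8 → F :=
  zMk ((a : Matrix (Fin 2) (Fin 2) F) * zH x * ((a⁻¹ : GL (Fin 2) F) : Matrix (Fin 2) (Fin 2) F))
    ((c : Matrix (Fin 2) (Fin 2) F) * zN x * ((a⁻¹ : GL (Fin 2) F) : Matrix (Fin 2) (Fin 2) F))

theorem pairFun_pairFun (a c a' c' : GL (Fin 2) F) (x : Fin 8 → F) :
    pairFun a c (pairFun a' c' x) = pairFun (a * a') (c * c') x := by
  simp only [pairFun, zH_zMk, zN_zMk, _root_.mul_inv_rev, Units.val_mul, Matrix.mul_assoc]

theorem pairFun_one (x : Fin 8 → F) : pairFun 1 1 x = x := by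
  simp [pairFun, zMk_zH_zN]

/-- `pairFun` as a linear equivalence. -/
def pairEquiv (a c : GL (Fin 2) F) : (Fin 8 → F) ≃ₗ[F] (Fin 8 → F) where
  toFun := pairFun a c
  map_add' x y := z_ext
    (by simp [pairFun, zH_zMk, zH_add, Matrix.mul_add, Matrix.add_mul])
    (by simp [pairFun, zN_zMk, zN_add, Matrix.mul_add, Matrix.add_mul])
  map_smul' r x := z_ext
    (by simp [pairFun, zH_zMk, zH_smul])
    (by simp [pairFun, zN_zMk, zN_smul])
  invFun := pairFun a⁻¹ c⁻¹
  left_inv x := by rw [pairFun_pairFun, inv_mul_cancel, inv_mul_cancel, pairFun_one]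
  right_inv x := by rw [pairFun_pairFun, mul_inv_cancel, mul_inv_cancel, pairFun_one]

theorem pairEquiv_mul_apply (g : Pairs F) (x y : Fin 8 → F) :
    pairEquiv g.1.1 g.1.2 (zornMul x y) =
      zornMul (pairEquiv g.1.1 g.1.2 x) (pairEquiv g.1.1 g.1.2 y) := by
  show pairFun g.1.1 g.1.2 (zornMul x y) = zornMul (pairFun g.1.1 g.1.2 x) (pairFun g.1.1 g.1.2 y)
  set A : Matrix (Fin 2) (Fin 2) F := ((g.1.1 : GL (Fin 2) F) : Matrix (Fin 2) (Fin 2) F)
  set A' : Matrix (Fin 2) (Fin 2) F := ((g.1.1⁻¹ : GL (Fin 2) F) : Matrix (Fin 2) (Fin 2) F) with hA'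
  set C : Matrix (Fin 2) (Fin 2) F := ((g.1.2 : GL (Fin 2) F) : Matrix (Fin 2) (Fin 2) F)
  have hAA : A' * A = 1 := g.1.1.inv_mul
  have hAA' : A * A' = 1 := g.1.1.mul_inv
  have hdd : A'.det * A.det = 1 := by rw [← Matrix.det_mul, hAA, Matrix.det_one]
  have hadj : adjugate A' = A'.det • A := by
    have h := congrArg (· * A) (Matrix.adjugate_mul A')
    simp only [Matrix.mul_assoc, hAA, Matrix.mul_one, Matrix.smul_mul, Matrix.one_mul] at h
    exact h
  have hC : adjugate C * C = A.det • (1 : Matrix (Fin 2) (Fin 2) F) := by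
    rw [Matrix.adjugate_mul, det_eq g]
  have hadjA : adjugate A = A.det • A' := by
    have h := congrArg (· * A') (Matrix.adjugate_mul A)
    simp only [Matrix.mul_assoc, hAA', Matrix.mul_one, Matrix.smul_mul, Matrix.one_mul] at h
    exact h
  refine z_ext ?_ ?_
  · rw [zH_mul (pairFun _ _ x), pairFun, pairFun, pairFun, zH_zMk, zH_zMk, zH_zMk, zN_zMk, zN_zMk,
      zH_mul, ← hA', Matrix.adjugate_mul_distrib, Matrix.adjugate_mul_distrib, hadj]
    have e1 : A * zH x * A' * (A * zH y * A') = A * (zH x * zH y) * A' := by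
      calc A * zH x * A' * (A * zH y * A') = A * zH x * (A' * A) * zH y * A' := by
            simp only [Matrix.mul_assoc]
        _ = A * (zH x * zH y) * A' := by rw [hAA, Matrix.mul_one]; simp only [Matrix.mul_assoc]
    have e2 : A'.det • A * (adjugate (zN y) * adjugate C) * (C * zN x * A') =
        A * (adjugate (zN y) * zN x) * A' := by
      calc A'.det • A * (adjugate (zN y) * adjugate C) * (C * zN x * A')
            = A'.det • (A * adjugate (zN y) * (adjugate C * C) * zN x * A') := by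
              simp only [Matrix.mul_assoc, Matrix.smul_mul]
        _ = A * (adjugate (zN y) * zN x) * A' := by
              rw [hC]
              simp only [Matrix.smul_mul, Matrix.mul_smul, smul_smul, hdd, one_smul, Matrix.mul_one,
                Matrix.mul_assoc]
    rw [e1, e2, Matrix.mul_sub, Matrix.sub_mul]
  · rw [zN_mul (pairFun _ _ x), pairFun, pairFun, pairFun, zN_zMk, zN_zMk, zN_zMk, zH_zMk, zH_zMk,
      zN_mul, ← hA', Matrix.adjugate_mul_distrib, Matrix.adjugate_mul_distrib, hadj, hadjA]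
    have e1 : C * zN y * A' * (A * zH x * A') = C * (zN y * zH x) * A' := by
      calc C * zN y * A' * (A * zH x * A') = C * zN y * (A' * A) * zH x * A' := by
            simp only [Matrix.mul_assoc]
        _ = _ := by rw [hAA, Matrix.mul_one]; simp only [Matrix.mul_assoc]
    have e2 : C * zN x * A' * (A'.det • A * (adjugate (zH y) * A.det • A')) =
        C * (zN x * adjugate (zH y)) * A' := by
      calc C * zN x * A' * (A'.det • A * (adjugate (zH y) * A.det • A'))
            = (A'.det * A.det) • (C * zN x * (A' * A) * adjugate (zH y) * A') := by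
              simp only [Matrix.mul_assoc, Matrix.smul_mul, Matrix.mul_smul, smul_smul]
              rw [mul_comm]
        _ = _ := by
              rw [hdd, one_smul, hAA]
              simp only [Matrix.mul_one, Matrix.mul_assoc]
    rw [e1, e2, Matrix.mul_add, Matrix.add_mul]

/-- `(GL₂ × GL₂)⁼ → G₂`. -/
noncomputable def pairHom : Pairs F →* G2 F where
  toFun g := toG2 (pairEquiv g.1.1 g.1.2) (pairEquiv_mul_apply g)
  map_one' := act_injective (by
    rw [act_toG2, map_one]
    exact LinearEquiv.ext fun x => pairFun_one x)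
  map_mul' g h := act_injective (by
    rw [act_toG2, map_mul, act_toG2, act_toG2]
    exact LinearEquiv.ext fun x => (pairFun_pairFun _ _ _ _ x).symm)

theorem act_pairHom (g : Pairs F) (x : Fin 8 → F) : act (pairHom g) x = pairFun g.1.1 g.1.2 x := by
  show act (toG2 (pairEquiv g.1.1 g.1.2) (pairEquiv_mul_apply g)) x = _
  rw [act_toG2]; rfl

/-- The vector with scalar entries `α, β` and vectors `a, b`. -/
def zVec (α : F) (a b : Fin 3 → F) (β : F) : Fin 8 → F :=
  ![α, a 0, a 1, a 2, b 0, b 1, b 2, β]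

/-- The contragredient matrix of an element of `SL₃`. -/
def coM (A : SpecialLinearGroup (Fin 3) F) : Matrix (Fin 3) (Fin 3) F :=
  (adjugate (A : Matrix (Fin 3) (Fin 3) F))ᵀ

/-- `SL₃` fixing both idempotents. -/
def slFun (A : SpecialLinearGroup (Fin 3) F) (x : Fin 8 → F) : Fin 8 → F :=
  zVec (x 0) ((A : Matrix (Fin 3) (Fin 3) F).mulVec (zA F x)) ((coM A).mulVec (zB F x)) (x 7)

theorem coM_mul (A B : SpecialLinearGroup (Fin 3) F) : coM (A * B) = coM A * coM B := by
  exact (congrArg transpose (adjugate_mul_distrib _ _)).trans (transpose_mul _ _)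

theorem zA_zVec (α : F) (a b : Fin 3 → F) (β : F) : zA F (zVec α a b β) = a := by
  funext i; fin_cases i <;> rfl

theorem zB_zVec (α : F) (a b : Fin 3 → F) (β : F) : zB F (zVec α a b β) = b := by
  funext i; fin_cases i <;> rfl

theorem zVec_self (x : Fin 8 → F) : zVec (x 0) (zA F x) (zB F x) (x 7) = x := by
  funext i; fin_cases i <;> rfl

theorem slFun_slFun (A B : SpecialLinearGroup (Fin 3) F) (x : Fin 8 → F) :
    slFun A (slFun B x) = slFun (A * B) x := by
  simp only [slFun, zA_zVec, zB_zVec, Matrix.mulVec_mulVec, coM_mul, SpecialLinearGroup.coe_mul]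
  rfl

theorem slFun_one (x : Fin 8 → F) : slFun 1 x = x := by
  show zVec (x 0) ((1 : Matrix (Fin 3) (Fin 3) F).mulVec (zA F x))
    ((adjugate (1 : Matrix (Fin 3) (Fin 3) F))ᵀ.mulVec (zB F x)) (x 7) = x
  rw [adjugate_one, transpose_one, Matrix.one_mulVec, Matrix.one_mulVec]
  exact zVec_self x

theorem zA_add (x y : Fin 8 → F) : zA F (x + y) = zA F x + zA F y := by
  funext i; fin_cases i <;> rfl

theorem zB_add (x y : Fin 8 → F) : zB F (x + y) = zB F x + zB F y := by
  funext i; fin_cases i <;> rfl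

theorem zA_smul (r : F) (x : Fin 8 → F) : zA F (r • x) = r • zA F x := by
  funext i; fin_cases i <;> rfl

theorem zB_smul (r : F) (x : Fin 8 → F) : zB F (r • x) = r • zB F x := by
  funext i; fin_cases i <;> rfl

/-- `slFun` as a linear equivalence. -/
def slEquiv (A : SpecialLinearGroup (Fin 3) F) : (Fin 8 → F) ≃ₗ[F] (Fin 8 → F) where
  toFun := slFun A
  map_add' x y := by
    simp only [slFun, zA_add, zB_add, Matrix.mulVec_add]
    funext i; fin_cases i <;> simp [zVec]
  map_smul' r x := by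
    simp only [slFun, zA_smul, zB_smul, Matrix.mulVec_smul, RingHom.id_apply]
    funext i; fin_cases i <;> simp [zVec]
  invFun := slFun A⁻¹
  left_inv x := by rw [slFun_slFun, inv_mul_cancel, slFun_one]
  right_inv x := by rw [slFun_slFun, mul_inv_cancel, slFun_one]

theorem zornMul_eq (x y : Fin 8 → F) :
    zornMul x y = zVec (x 0 * y 0 + dot3 (zA F x) (zB F y))
      (x 0 • zA F y + y 7 • zA F x - cross3 (zB F x) (zB F y))
      (y 0 • zB F x + x 7 • zB F y + cross3 (zA F x) (zA F y))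
      (dot3 (zB F x) (zA F y) + x 7 * y 7) := rfl

theorem dot3_eq (u v : Fin 3 → F) : dot3 u v = u ⬝ᵥ v := by
  simp [dot3, dotProduct, Fin.sum_univ_three]

theorem cross_mulVec (A : SpecialLinearGroup (Fin 3) F) (u v : Fin 3 → F) :
    cross3 ((A : Matrix (Fin 3) (Fin 3) F).mulVec u) ((A : Matrix (Fin 3) (Fin 3) F).mulVec v) =
      (coM A).mulVec (cross3 u v) := by
  funext i
  fin_cases i <;>
    simp [cross3, coM, Matrix.adjugate_fin_three, Matrix.mulVec, dotProduct, Fin.sum_univ_three] <;>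
    ring

theorem cross_coM (A : SpecialLinearGroup (Fin 3) F) (u v : Fin 3 → F) :
    cross3 ((coM A).mulVec u) ((coM A).mulVec v) =
      (A : Matrix (Fin 3) (Fin 3) F).mulVec (cross3 u v) := by
  have h := A.2
  rw [Matrix.det_fin_three] at h
  funext i
  fin_cases i <;>
    simp [cross3, coM, Matrix.adjugate_fin_three, Matrix.mulVec, dotProduct, Fin.sum_univ_three]
  · linear_combination (A.1 0 0 * (u 1 * v 2 - u 2 * v 1) + A.1 0 1 * (u 2 * v 0 - u 0 * v 2) +
      A.1 0 2 * (u 0 * v 1 - u 1 * v 0)) * h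
  · linear_combination (A.1 1 0 * (u 1 * v 2 - u 2 * v 1) + A.1 1 1 * (u 2 * v 0 - u 0 * v 2) +
      A.1 1 2 * (u 0 * v 1 - u 1 * v 0)) * h
  · linear_combination (A.1 2 0 * (u 1 * v 2 - u 2 * v 1) + A.1 2 1 * (u 2 * v 0 - u 0 * v 2) +
      A.1 2 2 * (u 0 * v 1 - u 1 * v 0)) * h

theorem dot_coM (A : SpecialLinearGroup (Fin 3) F) (u v : Fin 3 → F) :
    dot3 ((A : Matrix (Fin 3) (Fin 3) F).mulVec u) ((coM A).mulVec v) = dot3 u v := by
  rw [dot3_eq, dot3_eq, coM, Matrix.dotProduct_mulVec, Matrix.vecMul_transpose,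
    Matrix.mulVec_mulVec, Matrix.adjugate_mul, A.2, one_smul, Matrix.one_mulVec]

theorem slEquiv_mul_apply (A : SpecialLinearGroup (Fin 3) F) (x y : Fin 8 → F) :
    slEquiv A (zornMul x y) = zornMul (slEquiv A x) (slEquiv A y) := by
  show slFun A (zornMul x y) = zornMul (slFun A x) (slFun A y)
  have e0 : ∀ z, slFun A z 0 = z 0 := fun z => rfl
  have e7 : ∀ z, slFun A z 7 = z 7 := fun z => rfl
  have eA : ∀ z, zA F (slFun A z) = (A : Matrix (Fin 3) (Fin 3) F).mulVec (zA F z) := fun z =>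
    zA_zVec _ _ _ _
  have eB : ∀ z, zB F (slFun A z) = (coM A).mulVec (zB F z) := fun z => zB_zVec _ _ _ _
  have c0 : zornMul x y 0 = x 0 * y 0 + dot3 (zA F x) (zB F y) := rfl
  have c7 : zornMul x y 7 = dot3 (zB F x) (zA F y) + x 7 * y 7 := rfl
  have cA : zA F (zornMul x y) =
      x 0 • zA F y + y 7 • zA F x - cross3 (zB F x) (zB F y) := by
    rw [zornMul_eq, zA_zVec]
  have cB : zB F (zornMul x y) =
      y 0 • zB F x + x 7 • zB F y + cross3 (zA F x) (zA F y) := by
    rw [zornMul_eq, zB_zVec]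
  rw [zornMul_eq (slFun A x), e0, e0, e7, e7, eA, eA, eB, eB, dot_coM, cross_coM, cross_mulVec]
  rw [show dot3 ((coM A).mulVec (zB F x)) ((A : Matrix (Fin 3) (Fin 3) F).mulVec (zA F y)) =
      dot3 (zB F x) (zA F y) by
    rw [dot3_eq, dotProduct_comm, ← dot3_eq, dot_coM, dot3_eq, dotProduct_comm, ← dot3_eq]]
  rw [slFun, c0, c7, cA, cB]
  simp only [Matrix.mulVec_sub, Matrix.mulVec_add, Matrix.mulVec_smul]

/-- `SL₃ → G₂`. -/
noncomputable def slHom : SpecialLinearGroup (Fin 3) F →* G2 F where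
  toFun A := toG2 (slEquiv A) (slEquiv_mul_apply A)
  map_one' := act_injective (by
    rw [act_toG2, map_one]
    exact LinearEquiv.ext fun x => slFun_one x)
  map_mul' A B := act_injective (by
    rw [act_toG2, map_mul, act_toG2, act_toG2]
    exact LinearEquiv.ext fun x => (slFun_slFun A B x).symm)

theorem act_slHom (A : SpecialLinearGroup (Fin 3) F) (x : Fin 8 → F) :
    act (slHom A) x = slFun A x := by
  show act (toG2 (slEquiv A) (slEquiv_mul_apply A)) x = _
  rw [act_toG2]; rfl

end CfsgLib.Classical.SylowAb.Octonion
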