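import Cfsg.Agent.Lib.Classical.SylowAb.OrthPlane

/-!
Sylow 2-subgroups of orthogonal groups as images of `(O₂ ≀ S_k) × 2^e`, and their intersection
with the kernel of parity and spinor norm.
-/

set_option autoImplicit false

namespace CfsgLib.Classical.SylowAb

open QuadraticMap (polar polarBilin)
open CfsgLib.Classical.Quad CfsgLib.SylowPermGen CfsgLib.Classical.SignRank
open Module

variable {F : Type*} [Field F] {V : Type*} [AddCommGroup V] [Module F V]
  {Q : QuadraticForm F V} {k e : ℕ} {d : Fin e → F}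
  {L : ((Fin k → Fin 2 → F) × (Fin e → F)) ≃ₗ[F] V}

/-- `(O₂ ≀ S_k) × 2^e`. -/
abbrev BlockGroup (F : Type*) [Field F] (k e : ℕ) := Wr (OQ (qSq F)) k × (Fin e → ℤˣ)

/-- The action of `(O₂ ≀ S_k) × 2^e` on coordinates. -/
noncomputable def blockCoord (k e : ℕ) : BlockGroup F k e →*
    (((Fin k → Fin 2 → F) × (Fin e → F)) ≃ₗ[F] ((Fin k → Fin 2 → F) × (Fin e → F))) :=
  blockAct k (OQ (qSq F)).subtype
    ((TwoRank.diagAct e).comp (MonoidHom.compLeft (TwoRank.signUnit F) (Fin e)))

theorem blockCoord_fst (x : BlockGroup F k e) (z : (Fin k → Fin 2 → F) × (Fin e → F)) (i : Fin k) :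
    (blockCoord k e x z).1 i =
      (x.1.left i : (Fin 2 → F) ≃ₗ[F] (Fin 2 → F)) (z.1 (x.1.right.symm i)) := rfl

theorem blockCoord_snd (x : BlockGroup F k e) (z : (Fin k → Fin 2 → F) × (Fin e → F)) (j : Fin e) :
    (blockCoord k e x z).2 j = ((x.2 j : ℤ) : F) * z.2 j := rfl

/-- The form is `Σ (x_i² + y_i²) + Σ d_j z_j²` in the coordinates `L`. -/
def IsBlockForm (Q : QuadraticForm F V) (d : Fin e → F)
    (L : ((Fin k → Fin 2 → F) × (Fin e → F)) ≃ₗ[F] V) : Prop :=
  ∀ z, Q (L z) = ∑ i, qSq F (z.1 i) + ∑ j, d j * z.2 j ^ 2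

theorem polar_blockForm (hL : IsBlockForm Q d L) (z w : (Fin k → Fin 2 → F) × (Fin e → F)) :
    polar Q (L z) (L w) = ∑ i, polar (qSq F) (z.1 i) (w.1 i) + ∑ j, 2 * d j * z.2 j * w.2 j := by
  have hq : ∀ i, polar (qSq F) (z.1 i) (w.1 i) =
      qSq F (z.1 i + w.1 i) - qSq F (z.1 i) - qSq F (w.1 i) := fun i => rfl
  show Q (L z + L w) - Q (L z) - Q (L w) = _
  rw [← map_add, hL, hL, hL, Finset.sum_congr rfl fun i _ => hq i, Finset.sum_sub_distrib,
    Finset.sum_sub_distrib]
  have : ∀ j, 2 * d j * z.2 j * w.2 j =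
      d j * (z + w).2 j ^ 2 - d j * z.2 j ^ 2 - d j * w.2 j ^ 2 := fun j => by
    simp only [Prod.snd_add, Pi.add_apply]; ring
  rw [Finset.sum_congr rfl fun j _ => this j, Finset.sum_sub_distrib, Finset.sum_sub_distrib]
  simp only [Prod.fst_add, Pi.add_apply]
  ring

theorem blockCoord_mem (hL : IsBlockForm Q d L) (x : BlockGroup F k e) :
    (L.symm.trans (blockCoord k e x)).trans L ∈ OQ Q := by
  rw [mem_OQ]
  intro v
  obtain ⟨z, rfl⟩ := L.surjective v
  simp only [LinearEquiv.trans_apply, LinearEquiv.symm_apply_apply]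
  rw [hL, hL]
  congr 1
  · simp only [blockCoord_fst, OQ.map_apply]
    exact Equiv.sum_comp x.1.right.symm fun i => qSq F (z.1 i)
  · refine Finset.sum_congr rfl fun j _ => ?_
    rw [blockCoord_snd, mul_pow, pow_two ((((x.2 j) : ℤ) : F)), ← Int.cast_mul, ← Units.val_mul,
      Int.units_mul_self]
    simp

/-- The embedding of `(O₂ ≀ S_k) × 2^e`. -/
noncomputable def blockHom (hL : IsBlockForm Q d L) : BlockGroup F k e →* OQ Q where
  toFun x := ⟨(L.symm.trans (blockCoord k e x)).trans L, blockCoord_mem hL x⟩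
  map_one' := Subtype.ext (LinearEquiv.ext fun v => by
    show L (blockCoord k e 1 (L.symm v)) = v
    rw [map_one]
    exact L.apply_symm_apply v)
  map_mul' x y := Subtype.ext (LinearEquiv.ext fun v => by
    show L (blockCoord k e (x * y) (L.symm v)) =
      L (blockCoord k e x (L.symm (L (blockCoord k e y (L.symm v)))))
    rw [map_mul, L.symm_apply_apply]
    rfl)

theorem blockHom_apply (hL : IsBlockForm Q d L) (x : BlockGroup F k e)
    (z : (Fin k → Fin 2 → F) × (Fin e → F)) :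
    (blockHom hL x : V ≃ₗ[F] V) (L z) = L (blockCoord k e x z) := by
  show L (blockCoord k e x (L.symm (L z))) = _
  rw [L.symm_apply_apply]

theorem blockHom_injective [Fintype F] (h2 : (2 : F) ≠ 0) (hL : IsBlockForm Q d L) :
    Function.Injective (blockHom hL) := by
  have h1 : (1 : F) ≠ -1 := fun h => h2 (by linear_combination h)
  intro x y h
  have h' : blockCoord k e x = blockCoord k e y := LinearEquiv.ext fun z =>
    L.injective (by rw [← blockHom_apply hL, h, blockHom_apply])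
  have ht : Function.Injective
      ((TwoRank.diagAct e).comp (MonoidHom.compLeft (TwoRank.signUnit F) (Fin e))) := by
    rw [MonoidHom.coe_comp]
    refine Function.Injective.comp (TwoRank.diagAct_injective e) ?_
    intro a b hab
    funext i
    have := congrFun hab i
    rw [MonoidHom.compLeft_apply, MonoidHom.compLeft_apply] at this
    exact TwoRank.signUnit_injective h1 this
  have hs : Function.Injective (OQ (qSq F)).subtype := Subtype.val_injective
  exact blockAct_injective k (OQ (qSq F)).subtype hs _ ht h'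

theorem eq_refl_of_coord (hL : IsBlockForm Q d L) (x : BlockGroup F k e)
    (u : (Fin k → Fin 2 → F) × (Fin e → F)) (hu : Q (L u) ≠ 0)
    (h : ∀ z, blockCoord k e x z = z - ((Q (L u))⁻¹ * polar Q (L z) (L u)) • u) :
    blockHom hL x = Quad.refl hu := by
  refine Subtype.ext (LinearEquiv.ext fun v => ?_)
  obtain ⟨z, rfl⟩ := L.surjective v
  rw [blockHom_apply, h, refl_apply, map_sub, map_smul]

theorem blockHom_single (hL : IsBlockForm Q d L) (i : Fin k) {v : Fin 2 → F} (hv : qSq F v ≠ 0) :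
    ∃ (u : V) (hu : Q u ≠ 0), Q u = qSq F v ∧
      blockHom hL (SemidirectProduct.inl (Pi.mulSingle i (Quad.refl hv)), 1) = Quad.refl hu := by
  classical
  have hQ : Q (L (Pi.single i v, 0)) = qSq F v := by
    rw [hL, Finset.sum_eq_single i (fun l _ hl => by simp [hl]) (by simp)]
    simp
  refine ⟨_, hQ ▸ hv, hQ, eq_refl_of_coord hL _ _ _ fun z => ?_⟩
  have hp : polar Q (L z) (L (Pi.single i v, 0)) = polar (qSq F) (z.1 i) v := by
    rw [polar_blockForm hL, Finset.sum_eq_single i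
      (fun l _ hl => by simp [hl, QuadraticMap.polar_zero_right]) (by simp)]
    simp
  rw [hQ, hp]
  refine Prod.ext (funext fun l => ?_) (funext fun j => ?_)
  · rw [blockCoord_fst]
    by_cases hl : l = i
    · subst hl
      simp [refl_apply, Equiv.Perm.one_def]
    · simp [hl, Equiv.Perm.one_def]
  · rw [blockCoord_snd]; simp

theorem blockHom_sign (h2 : (2 : F) ≠ 0) (hL : IsBlockForm Q d L) (j : Fin e) (hd : d j ≠ 0) :
    ∃ (u : V) (hu : Q u ≠ 0), Q u = d j ∧
      blockHom hL (1, Pi.mulSingle j (-1)) = Quad.refl hu := by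
  classical
  have hQ : Q (L (0, Pi.single j 1)) = d j := by
    rw [hL, Finset.sum_eq_single j (fun l _ hl => by simp [hl]) (by simp)]
    simp
  refine ⟨_, hQ ▸ hd, hQ, eq_refl_of_coord hL _ _ _ fun z => ?_⟩
  have hp : polar Q (L z) (L (0, Pi.single j 1)) = 2 * d j * z.2 j := by
    rw [polar_blockForm hL, Finset.sum_eq_single j (fun l _ hl => by simp [hl]) (by simp)]
    simp [QuadraticMap.polar_zero_right]
  rw [hQ, hp]
  refine Prod.ext (funext fun l => ?_) (funext fun i => ?_)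
  · rw [blockCoord_fst]; simp [Equiv.Perm.one_def]
  · rw [blockCoord_snd]
    by_cases hi : i = j
    · subst hi
      simp
      field_simp
      ring
    · simp [hi]

theorem blockHom_swap (h2 : (2 : F) ≠ 0) (hL : IsBlockForm Q d L) {i l : Fin k} (hil : i ≠ l) :
    ∃ (u w : V) (hu : Q u ≠ 0) (hw : Q w ≠ 0), Q u = 2 ∧ Q w = 2 ∧
      blockHom hL (SemidirectProduct.inr (Equiv.swap i l), 1) = Quad.refl hu * Quad.refl hw := by
  classical
  let u : Fin 2 → (Fin k → Fin 2 → F) × (Fin e → F) := fun c =>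
    (Pi.single i (Pi.single c 1) - Pi.single l (Pi.single c 1), 0)
  have hQ : ∀ c, Q (L (u c)) = 2 := fun c => by
    rw [hL, Finset.sum_eq_add_of_mem i l (Finset.mem_univ _) (Finset.mem_univ _) hil
      (fun m _ hm => by simp [u, hm.1, hm.2])]
    fin_cases c <;> simp [u, hil, hil.symm, qSq_apply] <;> norm_num
  have hp : ∀ c z, polar Q (L z) (L (u c)) = 2 * (z.1 i c - z.1 l c) := fun c z => by
    rw [polar_blockForm hL, Finset.sum_eq_add_of_mem i l (Finset.mem_univ _) (Finset.mem_univ _) hil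
      (fun m _ hm => by simp [u, hm.1, hm.2, QuadraticMap.polar_zero_right])]
    fin_cases c <;> simp [u, hil, hil.symm, polar_qSq] <;> ring
  refine ⟨L (u 0), L (u 1), by rw [hQ]; exact h2, by rw [hQ]; exact h2, hQ 0, hQ 1, ?_⟩
  refine Subtype.ext (LinearEquiv.ext fun v => ?_)
  obtain ⟨z, rfl⟩ := L.surjective v
  rw [blockHom_apply, Subgroup.coe_mul, LinearEquiv.mul_apply, refl_apply, refl_apply, hQ, hQ,
    hp, inv_mul_cancel_left₀ h2, ← map_smul, ← map_sub, hp, inv_mul_cancel_left₀ h2, ← map_smul,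
    ← map_sub]
  congr 1
  refine Prod.ext (funext fun m => funext fun c => ?_) (funext fun j => ?_)
  · rw [blockCoord_fst]
    by_cases h1 : m = i
    · subst h1
      fin_cases c <;> simp [u, hil, hil.symm] <;> ring
    by_cases h3 : m = l
    · subst h3
      fin_cases c <;> simp [u, hil, hil.symm] <;> ring
    simp [u, h1, h3, Equiv.swap_apply_of_ne_of_ne]
  · rw [blockCoord_snd]; simp [u]

section Main

variable [Fintype F] [FiniteDimensional F V]

theorem genP_block (hF : Odd (Fintype.card F)) (hQ : (polarBilin Q).Nondegenerate)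
    (hR : reflGroup Q = ⊤) (hd : ∀ j, d j ≠ 0) (hL : IsBlockForm Q d L) (hk : 2 ≤ k) :
    ∃ T : Sylow 2 (BlockGroup F k e),
      GenP 2 ((T : Subgroup (BlockGroup F k e)).map (blockHom hL) ⊓ (invHom hQ hR).ker) := by
  classical
  haveI : Fact (Nat.Prime 2) := ⟨Nat.prime_two⟩
  have h2 := TwoRank.two_ne_zero_of_odd hF
  haveI : Finite (OQ (qSq F)) := Finite.of_injective
    (fun g : OQ (qSq F) => ((g : (Fin 2 → F) ≃ₗ[F] (Fin 2 → F)) : (Fin 2 → F) → (Fin 2 → F)))
    fun g g' h => Subtype.ext (LinearEquiv.ext (congrFun h))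
  obtain ⟨S, hSgen, hScls⟩ := exists_sylow_plane hF
  obtain ⟨PS⟩ : Nonempty (Sylow 2 (Equiv.Perm (Fin k))) := inferInstance
  obtain ⟨T₀, hT₀⟩ := exists_sylow_wr S PS
  have hK : Nat.card (Fin e → ℤˣ) = 2 ^ e := by
    rw [Nat.card_fun, Nat.card_fin, Nat.card_eq_fintype_card, Fintype.card_units_int]
  let T : Sylow 2 (BlockGroup F k e) := Sylow.ofCard ((T₀ : Subgroup _).prod ⊤) (by
    rw [Nat.card_congr (Subgroup.prodEquiv _ _).toEquiv, Nat.card_prod, Subgroup.card_top,
      T₀.card_eq_multiplicity, Nat.card_prod, hK,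
      Nat.factorization_mul Nat.card_pos.ne' (pow_ne_zero _ two_ne_zero), Finsupp.add_apply,
      Nat.prime_two.factorization_pow, Finsupp.single_eq_same, pow_add])
  refine ⟨T, ?_⟩
  set ψ := invHom hQ hR
  set H := ((T : Subgroup (BlockGroup F k e))).map (blockHom hL)
  let R : Set (OQ Q) :=
    {x | ∃ (i : Fin k) (v : Fin 2 → F) (hv : qSq F v ≠ 0),
      Quad.refl hv ∈ (S : Subgroup (OQ (qSq F))) ∧
        x = blockHom hL (SemidirectProduct.inl (Pi.mulSingle i (Quad.refl hv)), 1)} ∪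
    {x | ∃ j : Fin e, x = blockHom hL (1, Pi.mulSingle j (-1))}
  let P0 : Set (OQ Q) :=
    {x | ∃ σ ∈ (PS : Subgroup (Equiv.Perm (Fin k))), σ * σ = 1 ∧
      x = blockHom hL (SemidirectProduct.inr σ, 1)}
  have memT : ∀ x : BlockGroup F k e, x.1 ∈ wrSub (S : Subgroup (OQ (qSq F))) PS →
      blockHom hL x ∈ H := fun x hx =>
    Subgroup.mem_map_of_mem _ ⟨show x.1 ∈ (T₀ : Subgroup _) from hT₀ ▸ hx, Subgroup.mem_top _⟩
  have hsingle : ∀ i, ∀ g ∈ (S : Subgroup (OQ (qSq F))),
      (SemidirectProduct.inl (Pi.mulSingle i g) : Wr (OQ (qSq F)) k) ∈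
        wrSub (S : Subgroup (OQ (qSq F))) PS := fun i g hg => inl_mem fun l => by
    by_cases hl : l = i
    · subst hl; rw [Pi.mulSingle_eq_same]; exact hg
    · rw [Pi.mulSingle_eq_of_ne hl]; exact one_mem _
  have hψperm : ∀ σ : Equiv.Perm (Fin k),
      ψ (blockHom hL (SemidirectProduct.inr σ, 1)) = 1 := by
    intro σ
    induction σ using Equiv.Perm.swap_induction_on with
    | one => rw [map_one]; exact (congrArg ψ (map_one (blockHom hL))).trans (map_one ψ)
    | swap_mul f x y hxy ih =>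
      obtain ⟨u, w, hu, hw, hu2, hw2, heq⟩ := blockHom_swap h2 hL hxy
      have hsplit : ((SemidirectProduct.inr (Equiv.swap x y * f), 1) : BlockGroup F k e) =
          (SemidirectProduct.inr (Equiv.swap x y), 1) * (SemidirectProduct.inr f, 1) := by
        rw [Prod.mk_mul_mk, map_mul, mul_one]
      rw [hsplit, map_mul, map_mul, ih, mul_one, heq, map_mul, invHom_refl, invHom_refl, hu2, hw2,
        Prod.mk_mul_mk, sqClass_mul_self, ← ofAdd_add, CharTwo.add_self_eq_zero,
        ofAdd_zero, Prod.one_eq_mk]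
  have hRval : ∀ x ∈ R, ∃ c : SqClass F, ψ x = (Multiplicative.ofAdd 1, c) ∧ x * x = 1 ∧ x ∈ H := by
    rintro _ (⟨i, v, hv, hvS, rfl⟩ | ⟨j, rfl⟩)
    · obtain ⟨u, hu, -, heq⟩ := blockHom_single hL i hv
      refine ⟨sqc (Q u), ?_, ?_, memT _ (hsingle i _ hvS)⟩
      · rw [heq, invHom_refl]
      · rw [heq, refl_mul_self]
    · obtain ⟨u, hu, -, heq⟩ := blockHom_sign h2 hL j (hd j)
      refine ⟨sqc (Q u), ?_, ?_, memT _ (one_mem _)⟩
      · rw [heq, invHom_refl]
      · rw [heq, refl_mul_self]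
  have hsame : ∀ i (c : SqClass F), ∃ x ∈ R, ψ x = (Multiplicative.ofAdd 1, c) ∧
      ∃ g : OQ (qSq F), x = blockHom hL (SemidirectProduct.inl (Pi.mulSingle i g), 1) := by
    intro i c
    obtain ⟨v, hv, hvS, hvc⟩ := hScls c
    obtain ⟨u, hu, huv, heq⟩ := blockHom_single hL i hv
    refine ⟨_, Or.inl ⟨i, v, hv, hvS, rfl⟩, ?_, _, rfl⟩
    rw [heq, invHom_refl, huv, hvc]
  have hcomm1 : ∀ {i l : Fin k}, i ≠ l → ∀ g g' : OQ (qSq F),
      Commute (blockHom hL (SemidirectProduct.inl (Pi.mulSingle i g), 1))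
        (blockHom hL (SemidirectProduct.inl (Pi.mulSingle l g'), 1)) := fun {i l} hil g g' =>
    ((Pi.mulSingle_commute (f := fun _ : Fin k => OQ (qSq F)) hil g g').map
      SemidirectProduct.inl).map ((blockHom hL).comp (MonoidHom.inl _ _))
  have hcomm2 : ∀ (i : Fin k) (g : OQ (qSq F)) (ε : Fin e → ℤˣ),
      Commute (blockHom hL (SemidirectProduct.inl (Pi.mulSingle i g), 1)) (blockHom hL (1, ε)) :=
    fun i g ε => (Commute.prod (Commute.one_right _) (Commute.one_left ε)).map (blockHom hL)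
  have hcomm3 : ∀ ε ε' : Fin e → ℤˣ, Commute (blockHom hL (1, ε)) (blockHom hL (1, ε')) :=
    fun ε ε' => (Commute.all ε ε').map ((blockHom hL).comp (MonoidHom.inr _ _))
  obtain ⟨i₀, i₁, hi01⟩ : ∃ i₀ i₁ : Fin k, i₀ ≠ i₁ :=
    ⟨⟨0, by omega⟩, ⟨1, by omega⟩, by simp [Fin.ext_iff]⟩
  obtain ⟨α, hα⟩ : ∃ α : SqClass F, α ≠ 1 := by
    haveI : Finite (SqClass F) := Finite.of_surjective _ (toSqClass_surjective F)
    haveI := Finite.one_lt_card_iff_nontrivial.1
      (show 1 < Nat.card (SqClass F) by rw [card_sqClass_of_odd h2]; norm_num)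
    exact exists_ne 1
  obtain ⟨a₀, ha₀, hψa, ga, hga⟩ := hsame i₀ 1
  obtain ⟨b₀, hb₀, hψb, gb, hgb⟩ := hsame i₁ α
  have hcls : ∀ c : SqClass F, c = 1 ∨ c = α := by
    intro c
    obtain ⟨β, -, hβ⟩ := exists_generator_sqClass (F := F)
    rcases hβ c with h | h <;> rcases hβ α with h' | h'
    · exact Or.inl h
    · exact Or.inl h
    · exact absurd h' hα
    · exact Or.inr (h.trans h'.symm)
  refine genP_inf_ker ψ H R P0 (fun x hx => (hRval x hx).choose_spec.2.2) ?_ ?_
    (fun r hr => (hRval r hr).choose_spec.2.1) ?_ ?_ ha₀ hb₀ (hga ▸ hgb ▸ hcomm1 hi01 ga gb) ?_ ?_ ?_ ?_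
  · rintro _ ⟨σ, hσ, -, rfl⟩
    exact memT _ (inr_mem hσ)
  · rintro _ ⟨⟨x, ε⟩, ⟨hx, -⟩, rfl⟩
    have hx' : x ∈ wrSub (S : Subgroup (OQ (qSq F))) PS := hT₀ ▸ hx
    have hdec : ((x, ε) : BlockGroup F k e) = (SemidirectProduct.inl x.left, 1) *
        (SemidirectProduct.inr x.right, 1) * (1, ε) := by
      rw [Prod.mk_mul_mk, Prod.mk_mul_mk, SemidirectProduct.inl_left_mul_inr_right, mul_one,
        one_mul, one_mul]
    rw [hdec, map_mul, map_mul]
    refine Subgroup.mul_mem _ (Subgroup.mul_mem _ ?_ ?_) ?_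
    · have hall : x.left ∈ (Subgroup.closure (R ∪ P0)).comap ((blockHom hL).comp
          ((MonoidHom.inl _ _).comp SemidirectProduct.inl)) := by
        refine Subgroup.pi_mem_of_mulSingle_mem _ fun i => ?_
        have hle : (S : Subgroup (OQ (qSq F))) ≤ ((Subgroup.closure (R ∪ P0)).comap
          ((blockHom hL).comp ((MonoidHom.inl _ _).comp SemidirectProduct.inl))).comap
            (MonoidHom.mulSingle (fun _ : Fin k => OQ (qSq F)) i) := by
          refine hSgen.trans ((Subgroup.closure_le _).2 ?_)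
          rintro g ⟨hg, v, hv, rfl⟩
          exact Subgroup.subset_closure (Or.inl (Or.inl ⟨i, v, hv, hg, rfl⟩))
        exact hle (hx'.1 i)
      exact hall
    · have hall : (PS : Subgroup (Equiv.Perm (Fin k))) ≤ (Subgroup.closure (R ∪ P0)).comap
          ((blockHom hL).comp ((MonoidHom.inl _ _).comp SemidirectProduct.inr)) := by
        refine (genP_sylow_perm 2 k PS).trans ((Subgroup.closure_le _).2 ?_)
        rintro σ ⟨hσ, hσ2⟩
        exact Subgroup.subset_closure (Or.inr ⟨σ, hσ, by rwa [← pow_two], rfl⟩)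
      exact hall hx'.2
    · have hall : ε ∈ (Subgroup.closure (R ∪ P0)).comap
          ((blockHom hL).comp (MonoidHom.inr _ _)) := by
        refine Subgroup.pi_mem_of_mulSingle_mem _ fun j => ?_
        rcases Int.units_eq_one_or (ε j) with h | h <;> rw [h]
        · rw [Pi.mulSingle_one]; exact one_mem _
        · exact Subgroup.subset_closure (Or.inl (Or.inr ⟨j, rfl⟩))
      exact hall
  · rintro _ ⟨σ, -, hσ2, rfl⟩
    refine ⟨?_, hψperm σ⟩
    rw [← map_mul, Prod.mk_mul_mk, ← map_mul, hσ2, map_one, mul_one]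
    exact map_one _
  · intro a ha b hb hab
    obtain ⟨c, hψc, -, -⟩ := hRval a ha
    have key : Commute a b → ∃ c ∈ R, ψ c = ψ a ∧ Commute a c ∧ Commute c b :=
      fun h => ⟨a, ha, rfl, Commute.refl a, h⟩
    rcases ha with ⟨i, v, hv, -, rfl⟩ | ⟨j, rfl⟩
    · rcases hb with ⟨l, w, hw, -, rfl⟩ | ⟨j', rfl⟩
      · by_cases hil : i = l
        · subst hil
          obtain ⟨m, hm⟩ : ∃ m, m ≠ i := by
            by_cases h : i₀ = i
            · exact ⟨i₁, fun h' => hi01 (h.trans h'.symm)⟩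
            · exact ⟨i₀, h⟩
          obtain ⟨x, hx, hψx, g, rfl⟩ := hsame m c
          exact ⟨_, hx, hψx.trans hψc.symm, hcomm1 hm.symm _ _, hcomm1 hm _ _⟩
        · exact key (hcomm1 hil _ _)
      · exact key (hcomm2 i _ _)
    · rcases hb with ⟨l, w, hw, -, rfl⟩ | ⟨j', rfl⟩
      · exact key (hcomm2 l _ _).symm
      · exact key (hcomm3 _ _)
  · rw [hψa, hψb]; exact fun h => hα (congrArg Prod.snd h).symm
  · rw [hψa]
    exact fun h => one_ne_zero (congrArg (fun p => Multiplicative.toAdd p.1) h : (1 : ZMod 2) = 0)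
  · rw [hψb]
    exact fun h => hα (congrArg Prod.snd h)
  · intro r hr
    obtain ⟨c, hc, -⟩ := hRval r hr
    rcases hcls c with rfl | rfl
    · exact Or.inl (hc.trans hψa.symm)
    · exact Or.inr (hc.trans hψb.symm)

/-- Sylow 2-subgroups of a group embedded as the kernel of the invariants. -/
theorem sqComm_block (hF : Odd (Fintype.card F)) (hQ : (polarBilin Q).Nondegenerate)
    (hR : reflGroup Q = ⊤) (hd : ∀ j, d j ≠ 0) (hL : IsBlockForm Q d L) (hk : 2 ≤ k)
    (hval : padicValNat 2 (Nat.card (OQ Q)) =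
      k * padicValNat 2 (Fintype.card F ^ 2 - 1) + padicValNat 2 k.factorial + e)
    {N : Type*} [Group N] (j : N →* OQ Q) (hj : Function.Injective j)
    (hjr : j.range = (invHom hQ hR).ker) (P : Sylow 2 N) : SqComm (P : Subgroup N) := by
  haveI : Fact (Nat.Prime 2) := ⟨Nat.prime_two⟩
  have h2 := TwoRank.two_ne_zero_of_odd hF
  haveI : Finite V := Module.finite_of_finite F
  haveI : Finite (OQ (qSq F)) := Finite.of_injective
    (fun g : OQ (qSq F) => ((g : (Fin 2 → F) ≃ₗ[F] (Fin 2 → F)) : (Fin 2 → F) → (Fin 2 → F)))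
    fun g g' h => Subtype.ext (LinearEquiv.ext (congrFun h))
  haveI : Finite (OQ Q) := Finite.of_injective (fun g : OQ Q => ((g : V ≃ₗ[F] V) : V → V))
    fun g g' h => Subtype.ext (LinearEquiv.ext (congrFun h))
  obtain ⟨T, hT⟩ := genP_block hF hQ hR hd hL hk
  refine sqComm_sylow_normal (blockHom hL) (blockHom_injective h2 hL) ?_ T j hj
    (hjr ▸ inferInstance) ?_ P
  · rw [hval, Nat.card_prod, card_wr, Nat.card_fun, Nat.card_fin, Nat.card_eq_fintype_card (α := ℤˣ),
      Fintype.card_units_int,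
      padicValNat.mul (mul_ne_zero (pow_ne_zero _ Nat.card_pos.ne') (Nat.factorial_ne_zero k))
        (pow_ne_zero _ two_ne_zero),
      padicValNat.mul (pow_ne_zero _ Nat.card_pos.ne') (Nat.factorial_ne_zero k),
      padicValNat.pow _ _, padicValNat.prime_pow, val_card_plane hF]
  · refine SqComm.of_map _ (blockHom_injective h2 hL) ?_
    rw [hjr, Subgroup.map_inf _ _ _ (blockHom_injective h2 hL), Subgroup.map_comap_eq, ← inf_assoc,
      inf_eq_left.2 (Subgroup.map_le_range _ _)]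
    exact sqComm_of_genP hT

end Main

end CfsgLib.Classical.SylowAb
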