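import Cfsg.Agent.Lib.Classical.SylowAb.Basic
import Cfsg.Agent.Lib.Classical.ClassicalTwoRank
import Cfsg.Agent.Lib.Classical.Quad.OmegaIndex

/-!
The isometry group of the plane `x² + y²` in odd characteristic, and generation by involutions of
the kernel of a homomorphism to a four-group.
-/

set_option autoImplicit false

namespace CfsgLib.Classical.SylowAb

open QuadraticMap (polar polarBilin)
open CfsgLib.Classical.Quad CfsgLib.SylowPermGen
open Module

universe u v

/-- A group generated by involutions over two classes, and further involutions in the kernel: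
its intersection with the kernel is generated by involutions. -/
theorem genP_inf_ker {X : Type u} [Group X] {V : Type v} [CommGroup V] (ψ : X →* V)
    (H : Subgroup X) (R P0 : Set X) (hR : R ⊆ H) (hP0 : P0 ⊆ H)
    (hgen : H ≤ Subgroup.closure (R ∪ P0))
    (hR2 : ∀ r ∈ R, r * r = 1) (hP2 : ∀ π ∈ P0, π * π = 1 ∧ ψ π = 1)
    (hthird : ∀ a ∈ R, ∀ b ∈ R, ψ a = ψ b → ∃ c ∈ R, ψ c = ψ a ∧ Commute a c ∧ Commute c b)
    {a₀ b₀ : X} (ha : a₀ ∈ R) (hb : b₀ ∈ R) (hcomm : Commute a₀ b₀) (hne : ψ a₀ ≠ ψ b₀)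
    (ha1 : ψ a₀ ≠ 1) (hb1 : ψ b₀ ≠ 1) (hval : ∀ r ∈ R, ψ r = ψ a₀ ∨ ψ r = ψ b₀) :
    GenP 2 (H ⊓ ψ.ker) := by
  set J := Subgroup.closure {x : X | x ∈ H ⊓ ψ.ker ∧ x ^ 2 = 1}
  have hsq : ∀ r ∈ R, ψ r * ψ r = 1 := fun r hr => by rw [← map_mul, hR2 r hr, map_one]
  have hinv : ∀ y ∈ R ∪ P0, y⁻¹ = y := by
    rintro y (hy | hy)
    · exact inv_eq_of_mul_eq_one_right (hR2 y hy)
    · exact inv_eq_of_mul_eq_one_right (hP2 y hy).1
  have hpair : ∀ a ∈ R, ∀ b ∈ R, ψ a = ψ b → a * b ∈ J := by
    intro a ha b hb hab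
    obtain ⟨c, hc, hca, h1, h2⟩ := hthird a ha b hb hab
    have key : ∀ x ∈ R, ∀ y ∈ R, ψ x = ψ y → Commute x y → x * y ∈ J := by
      intro x hx y hy hxy hxy'
      refine Subgroup.subset_closure ⟨⟨H.mul_mem (hR hx) (hR hy), ?_⟩, ?_⟩
      · show ψ (x * y) = 1
        rw [map_mul, hxy, hsq y hy]
      · rw [hxy'.mul_pow, pow_two, pow_two, hR2 x hx, hR2 y hy, one_mul]
    rw [show a * b = (a * c) * (c * b) by
      rw [mul_assoc, ← mul_assoc c, hR2 c hc, one_mul]]
    exact J.mul_mem (key a ha c hc hca.symm h1) (key c hc b hb (hca.trans hab) h2)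
  have hconj : ∀ h ∈ H, ∀ j ∈ J, h * j * h⁻¹ ∈ J := by
    intro h hh j hj
    refine Subgroup.closure_induction (p := fun j _ => h * j * h⁻¹ ∈ J) ?_ ?_ ?_ ?_ hj
    · rintro y ⟨⟨hy, hyk⟩, hy2⟩
      refine Subgroup.subset_closure ⟨⟨H.mul_mem (H.mul_mem hh hy) (H.inv_mem hh), ?_⟩, ?_⟩
      · show ψ (h * y * h⁻¹) = 1
        rw [map_mul, map_mul, show ψ y = 1 from hyk, map_inv, mul_one, mul_inv_cancel]
      · rw [conj_pow, hy2, mul_one, mul_inv_cancel]
    · simp
    · intro x y _ _ hx hy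
      have := J.mul_mem hx hy
      simpa [mul_assoc] using this
    · intro x _ hx
      have := J.inv_mem hx
      simpa [mul_assoc] using this
  let M : X → Prop := fun x => ∃ j ∈ J, ∃ i l : ℕ, x = j * (a₀ ^ i * b₀ ^ l)
  have hMJ : ∀ g ∈ J, ∀ x, M x → M (g * x) := by
    rintro g hg x ⟨j, hj, i, l, rfl⟩
    exact ⟨g * j, J.mul_mem hg hj, i, l, by rw [mul_assoc]⟩
  have hMa : ∀ x, M x → M (a₀ * x) := by
    rintro x ⟨j, hj, i, l, rfl⟩
    exact ⟨a₀ * j * a₀⁻¹, hconj a₀ (hR ha) j hj, i + 1, l, by rw [pow_succ']; group⟩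
  have hMb : ∀ x, M x → M (b₀ * x) := by
    rintro x ⟨j, hj, i, l, rfl⟩
    refine ⟨b₀ * j * b₀⁻¹, hconj b₀ (hR hb) j hj, i, l + 1, ?_⟩
    rw [pow_succ', ← mul_assoc (a₀ ^ i), (hcomm.pow_left i).eq]
    group
  have hMgen : ∀ y ∈ R ∪ P0, ∀ x, M x → M (y * x) := by
    rintro y (hy | hy) x hx
    · rcases hval y hy with h | h
      · have := hMJ _ (hpair y hy a₀ ha h) _ (hMa x hx)
        rwa [mul_assoc y, ← mul_assoc a₀, hR2 a₀ ha, one_mul] at this
      · have := hMJ _ (hpair y hy b₀ hb h) _ (hMb x hx)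
        rwa [mul_assoc y, ← mul_assoc b₀, hR2 b₀ hb, one_mul] at this
    · exact hMJ y (Subgroup.subset_closure
        ⟨⟨hP0 hy, (hP2 y hy).2⟩, by rw [pow_two]; exact (hP2 y hy).1⟩) x hx
  intro x hx
  have hM : M x := by
    refine Subgroup.closure_induction_left (p := fun x _ => M x) ⟨1, one_mem _, 0, 0, by simp⟩
      (fun y hy z _ hz => hMgen y hy z hz) (fun y hy z _ hz => ?_) (hgen hx.1)
    rw [hinv y hy]
    exact hMgen y hy z hz
  obtain ⟨j, hj, i, l, rfl⟩ := hM
  have hJk : J ≤ ψ.ker := (Subgroup.closure_le _).2 fun y hy => hy.1.2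
  have hp : ∀ r ∈ R, ∀ i : ℕ, r ^ i = r ^ (i % 2) := fun r hr i => by
    conv_lhs => rw [← Nat.mod_add_div i 2, pow_add, pow_mul, pow_two, hR2 r hr, one_pow, mul_one]
  have hk : ψ (j * (a₀ ^ i * b₀ ^ l)) = 1 := hx.2
  rw [map_mul, MonoidHom.mem_ker.1 (hJk hj), one_mul, hp a₀ ha i, hp b₀ hb l, map_mul, map_pow,
    map_pow] at hk
  rw [hp a₀ ha i, hp b₀ hb l]
  rcases Nat.mod_two_eq_zero_or_one i with hi | hi <;>
    rcases Nat.mod_two_eq_zero_or_one l with hl | hl <;> rw [hi, hl] at hk ⊢ <;>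
    simp only [pow_zero, pow_one, mul_one, one_mul] at hk ⊢
  · exact hj
  · exact absurd hk hb1
  · exact absurd hk ha1
  · exact absurd (mul_right_cancel (hk.trans (hsq b₀ hb).symm)) hne

variable {F : Type*} [Field F]

/-- The form `x² + y²`. -/
abbrev qSq (F : Type*) [Field F] : QuadraticForm F (Fin 2 → F) := qBin 0 1

theorem qSq_apply (z : Fin 2 → F) : qSq F z = z 0 ^ 2 + z 1 ^ 2 := by
  rw [qBin_apply]; ring

theorem polar_qSq (v w : Fin 2 → F) : polar (qSq F) v w = 2 * (v 0 * w 0 + v 1 * w 1) := by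
  rw [polar_qBin]; ring

theorem qSq_nondeg (h2 : (2 : F) ≠ 0) : (polarBilin (qSq F)).Nondegenerate := by
  refine nondegenerate_of_left fun v hv => ?_
  have h0 := hv ![1, 0]
  have h1 := hv ![0, 1]
  simp [polar_qSq, h2] at h0 h1
  funext i
  fin_cases i
  · exact h0
  · exact h1

variable [Fintype F]

theorem reflGroup_qSq (h2 : (2 : F) ≠ 0) : reflGroup (qSq F) = ⊤ :=
  reflGroup_pi_eq_top (qSq_nondeg h2) (hex_of_two_ne_zero h2 (n := Fintype.card (Fin 2)))

/-- Every isometry of the plane is a reflection or has even parity. -/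
theorem refl_or_even (h2 : (2 : F) ≠ 0) (g : OQ (qSq F)) :
    (∃ (v : Fin 2 → F) (hv : qSq F v ≠ 0), g = refl hv) ∨
      (invHom (qSq_nondeg h2) (reflGroup_qSq h2) g).1 = 1 := by
  have he : ∀ i : Fin 2, qSq F (Pi.single i 1) = 1 := fun i => by
    fin_cases i <;> simp [qSq_apply]
  have hne : qSq F (Pi.single 1 1) ≠ 0 := by rw [he]; exact one_ne_zero
  -- an isometry fixing the first basis vector
  have hfix : ∀ k : OQ (qSq F), (k : (Fin 2 → F) ≃ₗ[F] (Fin 2 → F)) (Pi.single 0 1) = Pi.single 0 1 →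
      k = 1 ∨ k = Quad.refl hne := by
    intro k hk
    have hp := OQ.map_polar k (Pi.single 0 1) (Pi.single 1 1)
    rw [hk, polar_qSq, polar_qSq] at hp
    simp [h2] at hp
    have hq := OQ.map_apply k (Pi.single 1 1)
    rw [he, qSq_apply, hp] at hq
    simp at hq
    rcases hq with hq | hq
    · left
      refine Subtype.ext ((Pi.basisFun F (Fin 2)).ext' fun i => ?_)
      rw [Pi.basisFun_apply]
      fin_cases i
      · exact hk
      · funext l; fin_cases l
        · exact hp
        · exact hq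
    · right
      refine Subtype.ext ((Pi.basisFun F (Fin 2)).ext' fun i => ?_)
      rw [Pi.basisFun_apply, refl_apply, he]
      fin_cases i
      · funext l
        have := congrFun hk l
        fin_cases l <;> simpa [polar_qSq] using this
      · funext l
        fin_cases l
        · simpa [polar_qSq] using hp
        · simp [polar_qSq, qSq_apply, hq]; ring
  have h11 : ∀ x : Multiplicative (ZMod 2), x = Multiplicative.ofAdd 1 → x * x = 1 := by decide
  by_cases hg : (g : (Fin 2 → F) ≃ₗ[F] (Fin 2 → F)) (Pi.single 0 1) = Pi.single 0 1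
  · rcases hfix g hg with rfl | rfl
    · exact Or.inr (by rw [map_one]; rfl)
    · exact Or.inl ⟨_, hne, rfl⟩
  · set a := (g : (Fin 2 → F) ≃ₗ[F] (Fin 2 → F)) (Pi.single 0 1) with ha
    have hqa : qSq F a = 1 := by rw [ha, OQ.map_apply, he]
    set v := Pi.single 0 1 - a with hv
    have hva : v 0 = 1 - a 0 ∧ v 1 = -a 1 := by simp [hv]
    rw [qSq_apply] at hqa
    have hqv : qSq F v = 2 * (1 - a 0) := by
      rw [qSq_apply, hva.1, hva.2]; linear_combination hqa
    have hv0 : qSq F v ≠ 0 := by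
      rw [hqv]
      refine mul_ne_zero h2 fun h => hg ?_
      have h0 : a 0 = 1 := (sub_eq_zero.1 h).symm
      rw [h0] at hqa
      funext l
      fin_cases l
      · simpa using h0
      · simpa using (pow_eq_zero_iff two_ne_zero).1 (show a 1 ^ 2 = 0 by linear_combination hqa)
    have hk : ((Quad.refl hv0 * g : OQ (qSq F)) : (Fin 2 → F) ≃ₗ[F] (Fin 2 → F)) (Pi.single 0 1) =
        Pi.single 0 1 := by
      show (Quad.refl hv0 : (Fin 2 → F) ≃ₗ[F] (Fin 2 → F)) a = _
      rw [refl_apply, show polar (qSq F) a v = -qSq F v by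
        rw [polar_qSq, hqv, hva.1, hva.2]; linear_combination (-2) * hqa,
        mul_neg, inv_mul_cancel₀ hv0, neg_one_smul, sub_neg_eq_add, hv]
      abel
    rcases hfix _ hk with h | h
    · exact Or.inl ⟨v, hv0, (inv_eq_of_mul_eq_one_right h).symm.trans
        (inv_eq_of_mul_eq_one_right (refl_mul_self hv0))⟩
    · right
      have hg' : g = Quad.refl hv0 * Quad.refl hne := by
        rw [← h, ← mul_assoc, refl_mul_self, one_mul]
      rw [hg', map_mul, invHom_refl, invHom_refl]
      exact h11 _ rfl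

/-- A Sylow 2-subgroup of the plane isometries generated by its reflections, of both classes. -/
theorem exists_sylow_plane (hF : Odd (Fintype.card F)) :
    ∃ S : Sylow 2 (OQ (qSq F)),
      (S : Subgroup (OQ (qSq F))) ≤ Subgroup.closure
        {g | g ∈ (S : Subgroup (OQ (qSq F))) ∧ ∃ (v : Fin 2 → F) (hv : qSq F v ≠ 0), g = refl hv} ∧
      ∀ c : SqClass F, ∃ (v : Fin 2 → F) (hv : qSq F v ≠ 0),
        refl hv ∈ (S : Subgroup (OQ (qSq F))) ∧ sqc (qSq F v) = c := by
  haveI : Fact (Nat.Prime 2) := ⟨Nat.prime_two⟩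
  have h2 := TwoRank.two_ne_zero_of_odd hF
  have h1 : qSq F (Pi.single 0 1) ≠ 0 := by simp [qSq_apply]
  have hp : IsPGroup 2 (Subgroup.zpowers (refl h1)) := by
    intro g
    obtain ⟨k, hk⟩ := g.2
    refine ⟨1, Subtype.ext ?_⟩
    rw [Subgroup.coe_pow, ← hk, pow_one, ← zpow_natCast, ← zpow_mul, mul_comm, zpow_mul,
      zpow_natCast, pow_two, refl_mul_self, one_zpow, Subgroup.coe_one]
  obtain ⟨S, hS⟩ := hp.exists_le_sylow
  have hr : refl h1 ∈ (S : Subgroup (OQ (qSq F))) := hS (Subgroup.mem_zpowers _)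
  set ψ := invHom (qSq_nondeg h2) (reflGroup_qSq h2) with hψ
  have hodd1 : Multiplicative.ofAdd (1 : ZMod 2) ≠ (1 : Multiplicative (ZMod 2)) :=
    fun h => one_ne_zero (congrArg Multiplicative.toAdd h)
  refine ⟨S, fun s hs => ?_, fun c => ?_⟩
  · rcases refl_or_even h2 s with h | h
    · exact Subgroup.subset_closure ⟨hs, h⟩
    · rw [show s = s * Quad.refl h1 * Quad.refl h1 by rw [mul_assoc, refl_mul_self, mul_one]]
      refine Subgroup.mul_mem _ (Subgroup.subset_closure ⟨Subgroup.mul_mem _ hs hr, ?_⟩)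
        (Subgroup.subset_closure ⟨hr, _, h1, rfl⟩)
      refine (refl_or_even h2 (s * refl h1)).resolve_right ?_
      rw [map_mul, Prod.fst_mul, h, one_mul, invHom_refl]
      exact hodd1
  · haveI : Finite (SqClass F) := Finite.of_surjective _ (toSqClass_surjective F)
    have hsurj : Function.Surjective ψ :=
      invHom_surjective _ _ (by rw [Module.finrank_pi]; simp)
    have h4 : Nat.card (Multiplicative (ZMod 2) × SqClass F) = 4 := by
      rw [Nat.card_prod, card_sqClass_of_odd h2]; simp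
    have htop : (S : Subgroup (OQ (qSq F))).map ψ = ⊤ := by
      rw [← Subgroup.index_eq_one]
      have d1 := Subgroup.index_map_dvd (S : Subgroup (OQ (qSq F))) hsurj
      have d2 : ((S : Subgroup (OQ (qSq F))).map ψ).index ∣ 4 := h4 ▸ Subgroup.index_dvd_card _
      haveI : Finite (OQ (qSq F)) := Finite.of_injective
        (fun g : OQ (qSq F) => ((g : (Fin 2 → F) ≃ₗ[F] (Fin 2 → F)) : (Fin 2 → F) → (Fin 2 → F)))
        fun g g' h => Subtype.ext (LinearEquiv.ext (congrFun h))
      haveI : (S : Subgroup (OQ (qSq F))).FiniteIndex := Subgroup.finiteIndex_of_finite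
      have hodd : ¬ 2 ∣ (S : Subgroup (OQ (qSq F))).index := S.not_dvd_index
      have hnd : ¬ 2 ∣ ((S : Subgroup (OQ (qSq F))).map ψ).index := fun h => hodd (h.trans d1)
      have := Nat.le_of_dvd (by norm_num) d2
      interval_cases hi : ((S : Subgroup (OQ (qSq F))).map ψ).index <;> omega
    obtain ⟨s, hs, hsc⟩ : (Multiplicative.ofAdd (1 : ZMod 2), c) ∈
        (S : Subgroup (OQ (qSq F))).map ψ := htop ▸ Subgroup.mem_top _
    obtain ⟨v, hv, rfl⟩ := (refl_or_even h2 s).resolve_right (by rw [← hψ, hsc]; exact hodd1)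
    refine ⟨v, hv, hs, ?_⟩
    rw [hψ, invHom_refl] at hsc
    exact congrArg Prod.snd hsc

/-- The 2-part of the order of the isometry group of the plane. -/
theorem val_card_plane (hF : Odd (Fintype.card F)) :
    padicValNat 2 (Nat.card (OQ (qSq F))) = padicValNat 2 (Fintype.card F ^ 2 - 1) := by
  haveI : Fact (Nat.Prime 2) := ⟨Nat.prime_two⟩
  have h2 := TwoRank.two_ne_zero_of_odd hF
  have hq : 1 < Fintype.card F := Fintype.one_lt_card
  rw [TwoRank.val_sq_sub_one hq]
  rcases (show Fintype.card F % 4 = 1 ∨ Fintype.card F % 4 = 3 by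
    obtain ⟨k, hk⟩ := hF; omega) with h4 | h4
  · obtain ⟨i, hi⟩ : IsSquare (-1 : F) := FiniteField.isSquare_neg_one_iff.2 (by omega)
    let e : (Fin 2 → F) ≃ₗ[F] (Fin 1 ⊕ Fin 1 → F) :=
      { toFun := fun z => Sum.elim (fun _ => z 0 + i * z 1) (fun _ => z 0 - i * z 1)
        map_add' := fun u v => funext fun x => by rcases x with x | x <;> simp <;> ring
        map_smul' := fun c u => funext fun x => by rcases x with x | x <;> simp <;> ring
        invFun := fun w => ![(w (.inl 0) + w (.inr 0)) / 2, (w (.inl 0) - w (.inr 0)) / (2 * i)]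
        left_inv := fun z => by
          have hi0 : i ≠ 0 := by rintro rfl; simp at hi
          funext l
          fin_cases l <;> simp <;> field_simp <;> ring
        right_inv := fun w => by
          have hi0 : i ≠ 0 := by rintro rfl; simp at hi
          funext x
          rcases x with x | x <;> fin_cases x <;> simp <;> field_simp <;> ring }
    rw [Nat.card_congr (isoCongrEq (f := fun u _ => qSq F u) (f' := fun u _ => qPlus 1 F u) e
      fun z _ => by
        simp [e, coe_qPlus, Cfsg.quadFormPlus, qSq_apply]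
        linear_combination (z 1) ^ 2 * hi).toEquiv, card_OQ_qPlus rfl 0]
    simp only [zero_add, pow_one, mul_zero, pow_zero, mul_one, Finset.range_zero, Finset.prod_empty]
    rw [padicValNat.mul (by norm_num) (by omega), padicValNat.self (by norm_num)]
    have hplus : padicValNat 2 (Fintype.card F + 1) = 1 := by
      rw [show Fintype.card F + 1 = 2 * ((Fintype.card F + 1) / 2) by omega,
        padicValNat.mul (by norm_num) (by omega), padicValNat.self (by norm_num),
        padicValNat.eq_zero_of_not_dvd (by omega)]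
    omega
  · have hn : ¬ IsSquare (-1 : F) := by rw [FiniteField.isSquare_neg_one_iff]; omega
    rw [card_OQ_qBin rfl (a := (0 : F)) (b := 1) (fun x y hxy => ?_)]
    · rw [padicValNat.mul (by norm_num) (by omega), padicValNat.self (by norm_num),
        TwoRank.val_sub_one_of_mod_three h4]
      omega
    · have hy : y = 0 := by
        by_contra hy
        exact hn ⟨x / y, by field_simp; linear_combination -hxy⟩
      subst hy
      simpa using hxy

end CfsgLib.Classical.SylowAb
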