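import Cfsg.Agent.Lib.Classical.SylowAb.OrthBlock
import Cfsg.Agent.Lib.Classical.OmegaTwoRank

/-!
Sylow 2-subgroups of `Ω` for the standard forms in odd characteristic.
-/

set_option autoImplicit false

namespace CfsgLib.Classical.SylowAb

open QuadraticMap (polar polarBilin)
open CfsgLib.Classical.Quad
open Module

variable {F : Type*} [Field F] {V : Type*} [AddCommGroup V] [Module F V]
  {Q : QuadraticForm F V}

theorem apply_sum_orth (h2 : (2 : F) ≠ 0) {ι : Type*} [Fintype ι] {b : ι → V}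
    (ho : Pairwise fun i j => polar Q (b i) (b j) = 0) (c : ι → F) :
    Q (∑ i, c i • b i) = ∑ i, Q (b i) * c i ^ 2 := by
  refine mul_left_cancel₀ h2 ?_
  rw [← polar_self', ← QuadraticMap.polarBilin_apply_apply]
  simp only [map_sum, map_smul, LinearMap.sum_apply, LinearMap.smul_apply,
    QuadraticMap.polarBilin_apply_apply, smul_eq_mul, Finset.mul_sum]
  refine Finset.sum_congr rfl fun i _ => ?_
  rw [Finset.sum_eq_single i (fun j _ hj => by simp [ho hj, ho hj.symm]) (by simp), polar_self']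
  ring

/-- An orthogonal basis starting with `2k` vectors of value one gives block coordinates. -/
theorem exists_block_coord (h2 : (2 : F) ≠ 0) {N : ℕ} (b : Basis (Fin N) F V)
    (ho : Pairwise fun i j => polar Q (b i) (b j) = 0) (k e : ℕ) (hN : k * 2 + e = N)
    (hone : ∀ i : Fin N, (i : ℕ) < k * 2 → Q (b i) = 1) (hne : ∀ i, Q (b i) ≠ 0) :
    ∃ (d : Fin e → F) (L : ((Fin k → Fin 2 → F) × (Fin e → F)) ≃ₗ[F] V),
      (∀ j, d j ≠ 0) ∧ IsBlockForm Q d L := by
  subst hN
  let σ : Fin (k * 2 + e) ≃ (Fin k × Fin 2) ⊕ Fin e :=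
    finSumFinEquiv.symm.trans (Equiv.sumCongr finProdFinEquiv.symm (Equiv.refl _))
  let c := b.reindex σ
  refine ⟨fun j => Q (c (.inr j)), (((LinearEquiv.curry F F (Fin k) (Fin 2)).symm.prodCongr
    (LinearEquiv.refl F (Fin e → F))).trans
      (LinearEquiv.sumArrowLequivProdArrow _ _ F F).symm).trans c.equivFun.symm,
    fun j => by simp [c, hne], fun z => ?_⟩
  rw [LinearEquiv.trans_apply, Basis.equivFun_symm_apply]
  have hoc : Pairwise fun i j => polar Q (c i) (c j) = 0 := fun i j hij => by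
    simp only [c, Basis.reindex_apply]
    exact ho fun h => hij (σ.symm.injective h)
  rw [apply_sum_orth h2 hoc, Fintype.sum_sum_type, Fintype.sum_prod_type]
  congr 1
  refine Finset.sum_congr rfl fun i _ => ?_
  rw [Fin.sum_univ_two, qSq_apply]
  have h1 : ∀ l : Fin 2, Q (c (.inl (i, l))) = 1 := fun l => by
    simp only [c, Basis.reindex_apply]
    refine hone _ ?_
    simpa [σ] using (finProdFinEquiv (i, l)).isLt
  rw [h1, h1, one_mul, one_mul]
  rfl

variable [Fintype F] {ι : Type} [Fintype ι] [DecidableEq ι] {P : QuadraticForm F (ι → F)}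

/-- A basis with all but the last value one, and the square class of the last one. -/
theorem exists_value_basis (h2 : (2 : F) ≠ 0) (hQ : (polarBilin P).Nondegenerate) {n : ℕ}
    (hn : Fintype.card ι = n + 1) :
    ∃ b : Basis (Fin (n + 1)) F (ι → F), (Pairwise fun i j => polar P (b i) (b j) = 0) ∧
      (∀ i, i ≠ Fin.last n → P (b i) = 1) ∧ P (b (Fin.last n)) ≠ 0 ∧
      (Odd n → (IsSquare (LinearMap.BilinForm.toMatrix (Pi.basisFun F ι) (polarBilin P)).det ↔
        P (b (Fin.last n)) = 1)) := by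
  classical
  obtain ⟨α, hα⟩ : ∃ α : F, ¬ IsSquare α := FiniteField.exists_nonsquare fun h => h2 (by
    have := ringChar.eq_iff.1 h
    exact CharTwo.two_eq_zero)
  have hα0 : α ≠ 0 := by rintro rfl; exact hα IsSquare.zero
  have hi : (2 : F)⁻¹ ≠ 0 := inv_ne_zero h2
  obtain ⟨b, hb1, hb2, hb3⟩ := exists_normal_basis h2 hα n ((2 : F)⁻¹ • polarBilin P)
    ⟨fun u v => by simp [QuadraticMap.polar_comm]⟩
    ⟨fun x hx => hQ.1 x fun y => (mul_eq_zero.1 (hx y)).resolve_left hi,
      fun x hx => hQ.2 x fun y => (mul_eq_zero.1 (hx y)).resolve_left hi⟩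
    (by rw [finrank_pi, hn])
  have hval : ∀ i, ((2 : F)⁻¹ • polarBilin P) (b i) (b i) = P (b i) := fun i => by
    simp only [LinearMap.smul_apply, QuadraticMap.polarBilin_apply_apply, polar_self', smul_eq_mul]
    rw [inv_mul_cancel_left₀ h2]
  rw [hval] at hb3
  have ho : Pairwise fun i j => polar P (b i) (b j) = 0 := fun i j hij => by
    have := hb1 i j hij
    simpa [h2] using this
  have hone : ∀ i, i ≠ Fin.last n → P (b i) = 1 := fun i hi => (hval i).symm.trans (hb2 i hi)
  refine ⟨b, ho, hone, by rcases hb3 with h | h <;> rw [h] <;> simp [hα0], fun hodd => ?_⟩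
  rw [← CfsgLib.Known.QuadClassify.gram_eq,
    ← CfsgLib.Known.QuadClassify.gram_det_isSquare_iff P b (Pi.basisFun F ι),
    show Matrix.of (fun i j => polar P (b i) (b j)) = Matrix.diagonal fun i => polar P (b i) (b i) from
      Matrix.ext fun i j => by
        by_cases h : i = j
        · subst h; simp
        · simp [h, ho h],
    Matrix.det_diagonal]
  simp only [polar_self', Finset.prod_mul_distrib, Finset.prod_const, Finset.card_univ,
    Fintype.card_fin]
  rw [Finset.prod_eq_single (Fin.last n) (fun i _ hi => hone i hi) (by simp)]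
  obtain ⟨r, hr⟩ : IsSquare ((2 : F) ^ (n + 1)) := hodd.add_one.isSquare_pow _
  have hr0 : r ≠ 0 := fun h => pow_ne_zero (n + 1) h2 (by rw [hr, h, mul_zero])
  rw [hr]
  constructor
  · rintro ⟨w, hw⟩
    refine hb3.resolve_right fun h => hα ⟨w / r, ?_⟩
    rw [← h]
    field_simp
    linear_combination hw
  · intro h
    exact ⟨r, by rw [h, mul_one]⟩

theorem sqComm_omega_of_basis (hF : Odd (Fintype.card F)) (hQ : (polarBilin P).Nondegenerate)
    {N : ℕ} (b : Basis (Fin N) F (ι → F)) (ho : Pairwise fun i j => polar P (b i) (b j) = 0)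
    (k e : ℕ) (hN : k * 2 + e = N) (hk : 2 ≤ k)
    (hone : ∀ i : Fin N, (i : ℕ) < k * 2 → P (b i) = 1) (hne : ∀ i, P (b i) ≠ 0)
    (hval : padicValNat 2 (Nat.card (OQ P)) =
      k * padicValNat 2 (Fintype.card F ^ 2 - 1) + padicValNat 2 k.factorial + e)
    (S : Sylow 2 (Cfsg.Omega F ⇑P)) : SqComm (S : Subgroup (Cfsg.Omega F ⇑P)) := by
  have h2 := TwoRank.two_ne_zero_of_odd hF
  obtain ⟨d, L, hd, hL⟩ := exists_block_coord h2 b ho k e hN hone hne
  have hR := reflGroup_pi_eq_top hQ (hex_of_two_ne_zero h2 (n := Fintype.card ι))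
  exact sqComm_block hF hQ hR hd hL hk hval (OmegaTwoRank.omegaHom P)
    OmegaTwoRank.omegaHom_injective (OmegaTwoRank.range_omegaHom h2 hQ hR) S

theorem ne_zero_of_last {n : ℕ} {b : Basis (Fin (n + 1)) F (ι → F)}
    (hone : ∀ i, i ≠ Fin.last n → P (b i) = 1) (hlast : P (b (Fin.last n)) ≠ 0) (i : Fin (n + 1)) :
    P (b i) ≠ 0 := by
  by_cases hi : i = Fin.last n
  · rw [hi]; exact hlast
  · rw [hone i hi]; exact one_ne_zero

theorem sqComm_omega_even (hF : Odd (Fintype.card F)) (hQ : (polarBilin P).Nondegenerate) (m : ℕ)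
    (hm : Fintype.card ι = 2 * (m + 1))
    (hs : IsSquare (LinearMap.BilinForm.toMatrix (Pi.basisFun F ι) (polarBilin P)).det →
      1 ≤ m ∧ padicValNat 2 (Nat.card (OQ P)) =
        (m + 1) * padicValNat 2 (Fintype.card F ^ 2 - 1) + padicValNat 2 (m + 1).factorial)
    (hns : ¬ IsSquare (LinearMap.BilinForm.toMatrix (Pi.basisFun F ι) (polarBilin P)).det →
      2 ≤ m ∧ padicValNat 2 (Nat.card (OQ P)) =
        m * padicValNat 2 (Fintype.card F ^ 2 - 1) + padicValNat 2 m.factorial + 2)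
    (S : Sylow 2 (Cfsg.Omega F ⇑P)) : SqComm (S : Subgroup (Cfsg.Omega F ⇑P)) := by
  have h2 := TwoRank.two_ne_zero_of_odd hF
  obtain ⟨b, ho, hone, hlast, hsq⟩ := exists_value_basis h2 hQ (n := 2 * m + 1) (by omega)
  by_cases h : IsSquare (LinearMap.BilinForm.toMatrix (Pi.basisFun F ι) (polarBilin P)).det
  · obtain ⟨hm1, hv⟩ := hs h
    exact sqComm_omega_of_basis hF hQ b ho (m + 1) 0 (by omega) (by omega) (fun i _ => by
      by_cases hi : i = Fin.last _
      · rw [hi]; exact (hsq ⟨m, rfl⟩).1 h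
      · exact hone i hi) (ne_zero_of_last hone hlast) (by rw [hv, add_zero]) S
  · obtain ⟨hm1, hv⟩ := hns h
    exact sqComm_omega_of_basis hF hQ b ho m 2 (by omega) hm1 (fun i hi => hone i fun he => by
      rw [he, Fin.val_last] at hi; omega) (ne_zero_of_last hone hlast) hv S

theorem sqComm_omega_odd (hF : Odd (Fintype.card F)) (m : ℕ) (hm : 2 ≤ m)
    (S : Sylow 2 (Cfsg.Omega F (Cfsg.quadFormOdd m F))) :
    SqComm (S : Subgroup (Cfsg.Omega F (Cfsg.quadFormOdd m F))) := by
  haveI : Fact (Nat.Prime 2) := ⟨Nat.prime_two⟩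
  have h2 := TwoRank.two_ne_zero_of_odd hF
  have hq : 1 < Fintype.card F := Fintype.one_lt_card
  revert S
  rw [← coe_qOdd]
  intro S
  have hQ := qOdd_nondeg (F := F) h2 m
  obtain ⟨b, ho, hone, hlast, -⟩ := exists_value_basis (P := qOdd m F) h2 hQ (n := 2 * m)
    (by simp; omega)
  refine sqComm_omega_of_basis hF hQ b ho m 1 (by omega) hm (fun i hi => hone i fun he => by
    rw [he, Fin.val_last] at hi; omega) (ne_zero_of_last hone hlast) ?_ S
  rw [card_OQ_qOdd rfl h2, padicValNat.mul (mul_ne_zero two_ne_zero (pow_ne_zero _ (by omega)))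
      (Finset.prod_ne_zero_iff.2 fun i _ => Nat.sub_ne_zero_of_lt (Nat.one_lt_pow (by omega) hq)),
    padicValNat.mul two_ne_zero (pow_ne_zero _ (by omega)), padicValNat.self (by norm_num),
    TwoRank.val_prod_symp hq hF, padicValNat.eq_zero_of_not_dvd fun h =>
      (Nat.not_even_iff_odd.2 hF) (even_iff_two_dvd.2 (Nat.prime_two.dvd_of_dvd_pow h))]
  ring

/-- The 2-parts of `q^{m+1} ∓ 1`. -/
theorem val_pm (hq : 1 < Fintype.card F) (hF : Odd (Fintype.card F)) (m : ℕ) :
    (Fintype.card F ^ (m + 1) % 4 = 1 →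
      padicValNat 2 (Fintype.card F ^ (m + 1) + 1) = 1 ∧
        1 + padicValNat 2 (Fintype.card F ^ (m + 1) - 1) =
          padicValNat 2 (Fintype.card F ^ 2 - 1) + padicValNat 2 (m + 1)) ∧
    (Fintype.card F ^ (m + 1) % 4 = 3 →
      padicValNat 2 (Fintype.card F ^ (m + 1) - 1) = 1 ∧
        1 + padicValNat 2 (Fintype.card F ^ (m + 1) + 1) =
          padicValNat 2 (Fintype.card F ^ 2 - 1) + padicValNat 2 (m + 1)) := by
  haveI : Fact (Nat.Prime 2) := ⟨Nat.prime_two⟩
  have hx : 1 < Fintype.card F ^ (m + 1) := Nat.one_lt_pow (by omega) hq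
  have hsum := TwoRank.val_pow_even hq hF (k := m + 1) (by omega)
  rw [show 2 * (m + 1) = (m + 1) * 2 by ring, pow_mul, TwoRank.val_sq_sub_one hx] at hsum
  constructor
  · intro h4
    have hp : padicValNat 2 (Fintype.card F ^ (m + 1) + 1) = 1 := by
      rw [show Fintype.card F ^ (m + 1) + 1 = 2 * ((Fintype.card F ^ (m + 1) + 1) / 2) by omega,
        padicValNat.mul (by norm_num) (by omega), padicValNat.self (by norm_num),
        padicValNat.eq_zero_of_not_dvd (by omega)]
    exact ⟨hp, by omega⟩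
  · intro h4
    have hp := TwoRank.val_sub_one_of_mod_three h4
    exact ⟨hp, by omega⟩

theorem sqComm_omega_plus (hF : Odd (Fintype.card F)) (m : ℕ) (hm : 1 ≤ m)
    (hm' : Even m ∨ 3 ≤ m) (S : Sylow 2 (Cfsg.Omega F (Cfsg.quadFormPlus m F))) :
    SqComm (S : Subgroup (Cfsg.Omega F (Cfsg.quadFormPlus m F))) := by
  haveI : Fact (Nat.Prime 2) := ⟨Nat.prime_two⟩
  obtain ⟨m, rfl⟩ : ∃ j, m = j + 1 := ⟨m - 1, by omega⟩
  have h2 := TwoRank.two_ne_zero_of_odd hF
  have hq : 1 < Fintype.card F := Fintype.one_lt_card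
  revert S
  rw [← coe_qPlus]
  intro S
  have hcase : Fintype.card F ^ (m + 1) % 4 = 1 ∨ Fintype.card F ^ (m + 1) % 4 = 3 := by
    obtain ⟨l, hl⟩ := hF.pow (n := m + 1); omega
  have hv : padicValNat 2 (Nat.card (OQ (qPlus (m + 1) F))) =
      1 + padicValNat 2 (Fintype.card F ^ (m + 1) - 1) +
        (m * padicValNat 2 (Fintype.card F ^ 2 - 1) + padicValNat 2 m.factorial) := by
    rw [card_OQ_qPlus rfl, padicValNat.mul (mul_ne_zero (mul_ne_zero two_ne_zero (pow_ne_zero _ (by omega)))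
        (Nat.sub_ne_zero_of_lt (Nat.one_lt_pow (by omega) hq)))
        (Finset.prod_ne_zero_iff.2 fun i _ => Nat.sub_ne_zero_of_lt (Nat.one_lt_pow (by omega) hq)),
      padicValNat.mul (mul_ne_zero two_ne_zero (pow_ne_zero _ (by omega)))
        (Nat.sub_ne_zero_of_lt (Nat.one_lt_pow (by omega) hq)),
      padicValNat.mul two_ne_zero (pow_ne_zero _ (by omega)), padicValNat.self (by norm_num),
      TwoRank.val_prod_symp hq hF, padicValNat.eq_zero_of_not_dvd fun h =>
        (Nat.not_even_iff_odd.2 hF) (even_iff_two_dvd.2 (Nat.prime_two.dvd_of_dvd_pow h))]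
  refine sqComm_omega_even hF (qPlus_nondeg (m + 1)) m (by simp; omega) (fun h => ?_) (fun h => ?_) S
  all_goals rw [det_gram_qPlus, isSquare_neg_one_pow rfl hF] at h
  · refine ⟨?_, ?_⟩
    · rcases hm' with ⟨r, hr⟩ | hr <;> omega
    rw [hv, ((val_pm hq hF m).1 h).2, Nat.factorial_succ,
      padicValNat.mul (by omega) (Nat.factorial_ne_zero m)]
    ring
  · refine ⟨?_, ?_⟩
    · by_contra hm2
      rcases hm' with ⟨r, hr⟩ | hr
      · refine h ?_
        rw [hr, ← two_mul, pow_mul, Nat.pow_mod, Nat.pow_mod (Fintype.card F) 2 4]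
        have hF' := Nat.odd_iff.1 hF
        rcases (show Fintype.card F % 4 = 1 ∨ Fintype.card F % 4 = 3 by omega) with h' | h' <;>
          rw [h'] <;> norm_num
      · omega
    rw [hv, ((val_pm hq hF m).2 (hcase.resolve_left h)).1]
    ring

theorem sqComm_omega_minus (hF : Odd (Fintype.card F)) (m : ℕ) (hm : 3 ≤ m) (a b : F)
    (hab : ∀ z₁ z₂ : F, z₁ ^ 2 + a * z₁ * z₂ + b * z₂ ^ 2 = 0 → z₁ = 0 ∧ z₂ = 0)
    (S : Sylow 2 (Cfsg.Omega F (Cfsg.quadFormMinus (m - 1) F a b))) :
    SqComm (S : Subgroup (Cfsg.Omega F (Cfsg.quadFormMinus (m - 1) F a b))) := by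
  haveI : Fact (Nat.Prime 2) := ⟨Nat.prime_two⟩
  obtain ⟨m, rfl⟩ : ∃ j, m = j + 1 := ⟨m - 1, by omega⟩
  have h2 := TwoRank.two_ne_zero_of_odd hF
  have hq : 1 < Fintype.card F := Fintype.one_lt_card
  revert S
  rw [Nat.add_sub_cancel]
  rw [← coe_qMinus]
  intro S
  have hd : ¬ IsSquare (a ^ 2 - 4 * b) := by
    rintro ⟨r, hr⟩
    exact h2 (hab (r - a) 2 (by linear_combination -hr)).2
  have hcase : Fintype.card F ^ (m + 1) % 4 = 1 ∨ Fintype.card F ^ (m + 1) % 4 = 3 := by
    obtain ⟨l, hl⟩ := hF.pow (n := m + 1); omega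
  have hv : padicValNat 2 (Nat.card (OQ (qMinus m F a b))) =
      1 + padicValNat 2 (Fintype.card F ^ (m + 1) + 1) +
        (m * padicValNat 2 (Fintype.card F ^ 2 - 1) + padicValNat 2 m.factorial) := by
    rw [card_OQ_qMinus rfl m hab, padicValNat.mul (mul_ne_zero (mul_ne_zero two_ne_zero
        (pow_ne_zero _ (by omega))) (Nat.succ_ne_zero _))
        (Finset.prod_ne_zero_iff.2 fun i _ => Nat.sub_ne_zero_of_lt (Nat.one_lt_pow (by omega) hq)),
      padicValNat.mul (mul_ne_zero two_ne_zero (pow_ne_zero _ (by omega))) (Nat.succ_ne_zero _),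
      padicValNat.mul two_ne_zero (pow_ne_zero _ (by omega)), padicValNat.self (by norm_num),
      TwoRank.val_prod_symp hq hF, padicValNat.eq_zero_of_not_dvd fun h =>
        (Nat.not_even_iff_odd.2 hF) (even_iff_two_dvd.2 (Nat.prime_two.dvd_of_dvd_pow h))]
  refine sqComm_omega_even hF (qMinus_nondeg hab m) m (by simp; omega) (fun h => ?_) (fun h => ?_) S
  all_goals rw [det_gram_qMinus,
    show (-1 : F) ^ m * (4 * b - a ^ 2) = (-1) ^ (m + 1) * (a ^ 2 - 4 * b) by ring,
    isSquare_mul_iff_not h2 (pow_ne_zero _ (by simp)) hd, isSquare_neg_one_pow rfl hF] at h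
  · refine ⟨by omega, ?_⟩
    rw [hv, ((val_pm hq hF m).2 (hcase.resolve_left h)).2, Nat.factorial_succ,
      padicValNat.mul (by omega) (Nat.factorial_ne_zero m)]
    ring
  · refine ⟨by omega, ?_⟩
    rw [hv, ((val_pm hq hF m).1 (not_not.1 h)).1]
    ring

end CfsgLib.Classical.SylowAb
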