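import Cfsg.Agent.Lib.Classical.SylowAb.Basic
import Cfsg.Agent.Lib.Classical.ClassicalTwoRank
import Cfsg.Agent.Lib.Classical.SL2Structure

/-!
Sylow 2-subgroups of `SL₂` and `Sp` in odd characteristic have elementary abelianisation.
-/

set_option autoImplicit false

namespace CfsgLib.Classical.SylowAb

open CfsgLib.Classical.SignRank

variable {F : Type*} [Field F] [Fintype F]

theorem sqComm_SL_two (hF : Odd (Fintype.card F))
    (S : Sylow 2 (Matrix.SpecialLinearGroup (Fin 2) F)) :
    SqComm (S : Subgroup (Matrix.SpecialLinearGroup (Fin 2) F)) := by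
  haveI : Fact (ringChar F).Prime := ⟨CharP.char_is_prime F (ringChar F)⟩
  have hp : ringChar F ≠ 2 := fun h => (Nat.not_even_iff_odd.2 hF)
    (Nat.even_iff.2 (FiniteField.even_card_of_char_two h))
  obtain ⟨k, hk, ⟨e⟩⟩ := CfsgLib.Classical.Two.sylow_two_quaternion hp
    (MonoidHom.id (Matrix.SpecialLinearGroup (Fin 2) F)) Function.injective_id
    (Matrix.SpecialLinearGroup.map (ZMod.castHom dvd_rfl F)) (fun a b h => by
      ext i j
      exact (ZMod.castHom dvd_rfl F).injective (congrFun (congrFun (congrArg Subtype.val h) i) j)) S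
  exact sqComm_of_equiv e (sqComm_quaternion k hk)

theorem sqComm_sylow_Sp (hF : Odd (Fintype.card F)) (n : ℕ)
    (P : Sylow 2 (Matrix.symplecticGroup (Fin n) F)) :
    SqComm (P : Subgroup (Matrix.symplecticGroup (Fin n) F)) := by
  haveI : Fact (Nat.Prime 2) := ⟨Nat.prime_two⟩
  obtain ⟨φ, hφ, hv⟩ := CfsgLib.Classical.TwoRank.exists_wreath_Sp hF n
  obtain ⟨S⟩ : Nonempty (Sylow 2 (Matrix.SpecialLinearGroup (Fin 2) F)) := inferInstance
  obtain ⟨T, hT⟩ := exists_sqComm_sylow_wr (m := n) S (sqComm_SL_two hF S)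
  refine sqComm_sylow (φ.comp (MonoidHom.inl _ _))
    (hφ.comp fun x y h => congrArg Prod.fst h) ?_ T hT P
  rw [hv, Nat.card_prod, Nat.card_unique (α := Fin 0 → Fˣ), mul_one]

end CfsgLib.Classical.SylowAb
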